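import Groth.Agent.FBase64.AssTensor.PullBase
import Groth.Agent.FlatMor68.FlatFiniteRank
import Mathlib.RingTheory.LocalRing.Length
import Mathlib.RingTheory.TensorProduct.Quotient

/-! Lengths of stalks of `f^*E ⊗ F` for `F` flat. -/

set_option autoImplicit false
set_option linter.style.haveILetI false
set_option backward.isDefEq.respectTransparency.types false
set_option maxHeartbeats 1000000
universe u

open CategoryTheory CategoryTheory.Limits AlgebraicGeometry TopologicalSpace TensorProduct

namespace Groth.Agent.FBase64.AssTensor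

open Div89 Groth.Agent.FBase64.AssSheaf Groth.Agent.QC70

/-- A nonzero finite module over a local algebra is faithfully flat as soon as it is flat. -/
theorem faithfullyFlat_of_finite {C A : Type u} [CommRing C] [CommRing A] [IsLocalRing C] [IsLocalRing A]
    [Algebra C A] [IsLocalHom (algebraMap C A)] (N : Type u) [AddCommGroup N] [Module A N] [Module C N]
    [IsScalarTower C A N] [Module.Finite A N] [Nontrivial N] [Module.Flat C N] : Module.FaithfullyFlat C N := by
  refine { submodule_ne_top := fun m hm h ↦ ?_ }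
  have h1 : (⊤ : Submodule A N) ≤ IsLocalRing.maximalIdeal A • ⊤ := by
    intro n _
    have : n ∈ (m • ⊤ : Submodule C N) := by rw [h]; trivial
    refine Submodule.smul_induction_on this (fun r hr n _ ↦ ?_) (fun a b ha hb ↦ add_mem ha hb)
    rw [← algebraMap_smul A r n]
    refine Submodule.smul_mem_smul ?_ trivial
    rw [IsLocalRing.eq_maximalIdeal hm] at hr
    exact (IsLocalRing.mem_maximalIdeal _).mpr fun hu ↦ hr (IsUnit.of_map (algebraMap C A) r hu)
  have := Submodule.eq_bot_of_le_smul_of_le_jacobson_bot _ _ Module.Finite.fg_top h1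
    (IsLocalRing.maximalIdeal_le_jacobson _)
  exact top_ne_bot this

/-- Length one of a tensor product. -/
theorem length_tensor_eq_one {C A : Type u} [CommRing C] [CommRing A] [IsLocalRing C] [IsLocalRing A]
    [Algebra C A] (N : Type u) [AddCommGroup N] [Module A N] [Module C N] [IsScalarTower C A N]
    [Module.FaithfullyFlat C N] (M : Type u) [AddCommGroup M] [Module C M] [Nontrivial M] :
    Module.length A (N ⊗[C] M) = 1 ↔
      Module.length C M = 1 ∧ Module.length A (N ⊗[C] IsLocalRing.ResidueField C) = 1 := by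
  have key : IsSimpleModule C M → Nonempty (M ≃ₗ[C] IsLocalRing.ResidueField C) := by
    intro h
    obtain ⟨m, hm, ⟨e⟩⟩ := isSimpleModule_iff_quot_maximal.mp h
    rw [IsLocalRing.eq_maximalIdeal hm] at e
    exact ⟨e⟩
  rw [Module.length_eq_one_iff, Module.length_eq_one_iff]
  constructor
  · intro h
    have hM : IsSimpleModule C M := by
      refine { toIsSimpleOrder := ⟨fun M' => ?_⟩ }
      let incl : N ⊗[C] M' →ₗ[A] N ⊗[C] M := TensorProduct.AlgebraTensorModule.lTensor A N M'.subtype
      have hinj : Function.Injective incl :=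
        Module.Flat.lTensor_preserves_injective_linearMap (M := N) M'.subtype M'.injective_subtype
      rcases h.toIsSimpleOrder.eq_bot_or_eq_top (LinearMap.range incl) with h0 | h1
      · left
        have : Subsingleton (N ⊗[C] M') := ⟨fun a b => hinj (by
          rw [LinearMap.range_eq_bot] at h0
          simp [h0])⟩
        rw [← Submodule.subsingleton_iff_eq_bot]
        exact (Module.FaithfullyFlat.subsingleton_tensorProduct_iff_right C N).mp this
      · right
        have hs : Function.Surjective incl := LinearMap.range_eq_top.mp h1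
        have := (Module.FaithfullyFlat.lTensor_surjective_iff_surjective C N M'.subtype).mp hs
        rwa [← LinearMap.range_eq_top, Submodule.range_subtype] at this
    obtain ⟨e⟩ := key hM
    exact ⟨hM, by
      rw [← Module.length_eq_one_iff] at h
      rwa [← (TensorProduct.AlgebraTensorModule.congr (LinearEquiv.refl A N) e).length_eq]⟩
  · rintro ⟨hM, h⟩
    obtain ⟨e⟩ := key hM
    rw [← Module.length_eq_one_iff, (TensorProduct.AlgebraTensorModule.congr (LinearEquiv.refl A N) e).length_eq]
    exact h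

variable {X Y : Scheme.{u}}

/-- The stalk of a tensor product. -/
theorem nonempty_stalkTensorEquiv (F G : X.Modules) [F.IsQuasicoherent] [G.IsQuasicoherent] (x : X) :
    Nonempty ((CohB1.tensorMod F G).presheaf.stalk x ≃ₗ[X.presheaf.stalk x]
      F.presheaf.stalk x ⊗[X.presheaf.stalk x] G.presheaf.stalk x) := by
  obtain ⟨V, hV, hxV, -⟩ := exists_isAffineOpen_mem_and_subset (X := X) (x := x) (U := ⊤) trivial
  haveI := QCTens72.isQuasicoherent_tensorMod F G
  let T := CohB1.tensorMod F G
  letI : Algebra Γ(X, V) (X.presheaf.stalk x) := (X.presheaf.germ V x hxV).hom.toAlgebra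
  haveI : IsLocalization.AtPrime (X.presheaf.stalk x) (hV.primeIdealOf ⟨x, hxV⟩).asIdeal :=
    hV.isLocalization_stalk ⟨x, hxV⟩
  have key : ∀ (M : X.Modules) [M.IsQuasicoherent],
      Nonempty (X.presheaf.stalk x ⊗[Γ(X, V)] Γ(M, V) ≃ₗ[X.presheaf.stalk x] M.presheaf.stalk x) := by
    intro M _
    letI := stalkModule M hxV
    haveI : IsScalarTower Γ(X, V) (X.presheaf.stalk x) (M.presheaf.stalk x) :=
      IsScalarTower.of_algebraMap_smul fun r s => rfl
    haveI := isLocalizedModule_germ (isLocAt_of_isQuasicoherent M hV) hV hxV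
    exact ⟨(IsLocalizedModule.isBaseChange (hV.primeIdealOf ⟨x, hxV⟩).asIdeal.primeCompl
      (X.presheaf.stalk x) (germLinear M hxV)).equiv⟩
  obtain ⟨eT⟩ := key T
  obtain ⟨eF⟩ := key F
  obtain ⟨eG⟩ := key G
  exact ⟨eT.symm ≪≫ₗ AlgebraTensorModule.congr (LinearEquiv.refl _ _) (QCTens72.sectionsTensorEquiv F G hV) ≪≫ₗ
    AlgebraTensorModule.distribBaseChange Γ(X, V) (X.presheaf.stalk x) Γ(F, V) Γ(G, V) ≪≫ₗ
    TensorProduct.congr eF eG⟩

theorem length_pullTensor_eq_one (f : X ⟶ Y) (E : Y.Modules) (hE : Coh.IsQCoh E) (F : X.Modules)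
    (hF : Coh.IsCoh F) (hflat : FlatMod.IsFlatOver f F) (y : Y) (a : f.fiber y)
    (hEy : Nontrivial (E.presheaf.stalk y)) (hFx : f.fiberι y a ∈ CohB1.support F) :
    Module.length (X.presheaf.stalk (f.fiberι y a))
        ((CohB1.tensorMod ((Scheme.Modules.pullback f).obj E) F).presheaf.stalk (f.fiberι y a)) = 1 ↔
      Module.length (Y.presheaf.stalk y) (E.presheaf.stalk y) = 1 ∧
      Module.length ((f.fiber y).presheaf.stalk a)
        (((Scheme.Modules.pullback (f.fiberι y)).obj F).presheaf.stalk a) = 1 := by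
  haveI := hF.1
  haveI := hF.2
  haveI : E.IsQuasicoherent := hE
  haveI := QCPull72.isQuasicoherent_pullback f E
  let x := f.fiberι y a
  have hxy : f x = y := fiberι_over f y a
  have hlen : ∀ p q : Y, p = q → Module.length (Y.presheaf.stalk p) (E.presheaf.stalk p) =
      Module.length (Y.presheaf.stalk q) (E.presheaf.stalk q) := fun p q h => by subst h; rfl
  haveI : Nontrivial (E.presheaf.stalk (f x)) := hxy ▸ hEy
  letI := FlatMod.moduleStalkOver f F x
  let C := Y.presheaf.stalk (f x)
  let A := X.presheaf.stalk x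
  let N := F.presheaf.stalk x
  letI : Algebra C A := (f.stalkMap x).hom.toAlgebra
  haveI : IsLocalHom (algebraMap C A) := inferInstanceAs (IsLocalHom (f.stalkMap x).hom)
  haveI : IsScalarTower C A N :=
    ⟨fun a b n ↦ by rw [Algebra.smul_def]; exact mul_smul ((f.stalkMap x).hom a) b n⟩
  haveI : Module.Flat C N := hflat x
  haveI : Nontrivial N := not_subsingleton_iff_nontrivial.mp hFx
  haveI : Module.Finite A N := FDesc60.finite_stalk_of_isCoh F hF x
  haveI := faithfullyFlat_of_finite (C := C) (A := A) N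
  obtain ⟨eT⟩ := nonempty_stalkTensorEquiv ((Scheme.Modules.pullback f).obj E) F x
  obtain ⟨eE⟩ := FlatMor68.PullbackStalk.nonempty_stalkPullbackEquiv f E x
  have e1 := eT ≪≫ₗ TensorProduct.comm A _ _ ≪≫ₗ TensorProduct.congr (LinearEquiv.refl A N) eE ≪≫ₗ
    AlgebraTensorModule.cancelBaseChange C A A N (E.presheaf.stalk (f x))
  rw [e1.length_eq, length_tensor_eq_one, hlen _ _ hxy]
  refine and_congr Iff.rfl (Eq.congr_left ?_)
  -- the fibre
  let A' := (f.fiber y).presheaf.stalk a
  letI : Algebra A A' := ((f.fiberι y).stalkMap a).hom.toAlgebra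
  have hs : Function.Surjective (algebraMap A A') := FlatMor68.FibreStalk.fiberι_stalkMap_surjective f y a
  obtain ⟨eP⟩ := FlatMor68.PullbackStalk.nonempty_stalkPullbackEquiv (f.fiberι y) F a
  rw [eP.length_eq]
  change Module.length A (N ⊗[C] IsLocalRing.ResidueField C) = Module.length A' (A' ⊗[A] N)
  rw [← Module.length_eq_of_surjective (M := A' ⊗[A] N) hs]
  let q : (A ⊗[C] IsLocalRing.ResidueField C) ≃ₗ[A] A' :=
    (Algebra.TensorProduct.quotIdealMapEquivTensorQuot A (IsLocalRing.maximalIdeal C)).symm.toLinearEquiv ≪≫ₗ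
      (Ideal.quotientEquivAlgOfEq A (FlatMor68.FibreStalk.ker_fiberι_stalkMap f y a).symm).toLinearEquiv ≪≫ₗ
      (Ideal.quotientKerAlgEquivOfSurjective (f := Algebra.ofId A A') hs).toLinearEquiv
  exact ((AlgebraTensorModule.cancelBaseChange C A A N (IsLocalRing.ResidueField C)).symm ≪≫ₗ
    TensorProduct.congr (LinearEquiv.refl A N) q ≪≫ₗ TensorProduct.comm A N A').length_eq

theorem isReducedMod_pullTensor_iff [IsLocallyNoetherian X] [IsLocallyNoetherian Y] (f : X ⟶ Y) (E : Y.Modules)
    (hE : Coh.IsQCoh E) (F : X.Modules) (hF : Coh.IsCoh F) (hflat : FlatMod.IsFlatOver f F) :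
    AssSch.IsReducedMod (CohB1.tensorMod ((Scheme.Modules.pullback f).obj E) F) ↔
      ∀ y ∈ AssSch.Ass E ∩ f.base '' CohB1.support F,
        (∀ y' ∈ AssSch.Ass E, y' ⤳ y → y' = y) ∧
          Module.length (Y.presheaf.stalk y) (E.presheaf.stalk y) = 1 ∧
          AssSch.IsReducedMod ((Scheme.Modules.pullback (f.fiberι y)).obj F) := by
  haveI := hF.1
  haveI := hF.2
  have hsupp : ∀ (y : Y) (a : f.fiber y),
      a ∈ CohB1.support ((Scheme.Modules.pullback (f.fiberι y)).obj F) ↔ f.fiberι y a ∈ CohB1.support F :=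
    fun y a => Set.ext_iff.mp (QCPull72.support_pullback (f.fiberι y) F) a
  have key : ∀ y ∈ AssSch.Ass E, ∀ a ∈ AssSch.Ass ((Scheme.Modules.pullback (f.fiberι y)).obj F),
      (Module.length (X.presheaf.stalk (f.fiberι y a))
          ((CohB1.tensorMod ((Scheme.Modules.pullback f).obj E) F).presheaf.stalk (f.fiberι y a)) = 1 ↔
        Module.length (Y.presheaf.stalk y) (E.presheaf.stalk y) = 1 ∧
        Module.length ((f.fiber y).presheaf.stalk a)
          (((Scheme.Modules.pullback (f.fiberι y)).obj F).presheaf.stalk a) = 1) := fun y hy a ha =>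
    length_pullTensor_eq_one f E hE F hF hflat y a (nontrivial_stalk_of_mem_ass _ y hy)
      ((hsupp y a).mp (not_subsingleton_iff_nontrivial.mpr (nontrivial_stalk_of_mem_ass _ a ha)))
  have hmem : ∀ (y : Y), y ∈ AssSch.Ass E → ∀ a ∈ AssSch.Ass ((Scheme.Modules.pullback (f.fiberι y)).obj F),
      f.fiberι y a ∈ AssSch.Ass (CohB1.tensorMod ((Scheme.Modules.pullback f).obj E) F) := by
    intro y hy a ha
    rw [mem_ass_pullTensor f E hE F hF.1 hflat, fiberι_over]
    exact ⟨hy, a, ha, rfl⟩
  constructor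
  · rintro ⟨hne, hlen⟩ y hy
    obtain ⟨h1, h2⟩ := (noEmbedded_pullTensor_iff f E hE F hF hflat).mp hne y hy
    obtain ⟨x, hx, hxy⟩ := hy.2
    obtain ⟨b, hb⟩ : x ∈ Set.range (f.fiberι y) := by rw [f.range_fiberι]; exact hxy
    obtain ⟨a, ha, -⟩ := exists_ass_specializes _ (QCPull72.isQuasicoherent_pullback (f.fiberι y) F) b
      (not_subsingleton_iff_nontrivial.mp ((hsupp y b).mpr (hb ▸ hx)))
    exact ⟨h1, ((key y hy.1 a ha).mp (hlen _ (hmem y hy.1 a ha))).1, h2,
      fun a ha => ((key y hy.1 a ha).mp (hlen _ (hmem y hy.1 a ha))).2⟩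
  · intro h
    refine ⟨(noEmbedded_pullTensor_iff f E hE F hF hflat).mpr fun y hy => ⟨(h y hy).1, (h y hy).2.2.1⟩,
      fun z hz => ?_⟩
    obtain ⟨hz1, a, ha, haz⟩ := (mem_ass_pullTensor f E hE F hF.1 hflat z).mp hz
    have hS : z ∈ CohB1.support F := by
      rw [← haz]
      exact (hsupp _ a).mp (not_subsingleton_iff_nontrivial.mpr (nontrivial_stalk_of_mem_ass _ a ha))
    obtain ⟨-, hl, hr⟩ := h (f z) ⟨hz1, z, hS, rfl⟩
    rw [← haz]
    exact (key _ hz1 a ha).mpr ⟨hl, hr.2 a ha⟩

end Groth.Agent.FBase64.AssTensor
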