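import Groth.Agent.FBase64.AssTensor.Main
import Groth.Agent.FlatMor68.FibreStalk
import Groth.Prelude.Def_PicLoc
import Mathlib.AlgebraicGeometry.Morphisms.UniversallyOpen

/-! Associated points of products over a field and of `f^*E ⊗ F`. -/

set_option autoImplicit false
set_option linter.style.haveILetI false
set_option backward.isDefEq.respectTransparency.types false
set_option maxHeartbeats 1000000
universe u

open CategoryTheory CategoryTheory.Limits AlgebraicGeometry TopologicalSpace TensorProduct

namespace Groth.Agent.FBase64.AssTensor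

open Div89 Groth.Agent.FBase64.AssSheaf

theorem noEmbedded_congr {X : Scheme.{u}} {F G : X.Modules} (e : F ≅ G) :
    AssSch.NoEmbedded F ↔ AssSch.NoEmbedded G := by
  rw [AssSch.NoEmbedded, AssSch.NoEmbedded, ass_iso e]

/-- The tensor product of the pulled back structure sheaves. -/
noncomputable def structTensorIso {X Y P : Scheme.{u}} (a : P ⟶ X) (b : P ⟶ Y) :
    CohB1.tensorMod ((Scheme.Modules.pullback a).obj (Coh.structureModule X))
      ((Scheme.Modules.pullback b).obj (Coh.structureModule Y)) ≅ Coh.structureModule P :=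
  EGA73.tensIso (PicLoc.pullbackStructureIso a) (PicLoc.pullbackStructureIso b) ≪≫ EGA73.tensUnitLeft _

theorem isFlatOver_field {k : Type u} [Field k] {Y : Scheme.{u}} (g : Y ⟶ Spec (CommRingCat.of k))
    (G : Y.Modules) : FlatMod.IsFlatOver g G := by
  intro y
  unfold FlatMod.IsFlatOverAt
  letI := FlatMod.moduleStalkOver g G y
  have h := (IsLocalRing.isField_iff_maximalIdeal_eq).mpr (FlatMor68.FibreStalk.spec_field_stalk_maximalIdeal k (g y))
  letI := h.toField
  exact Module.Flat.of_free

theorem ass_field {k : Type u} [Field k] (s : Spec (CommRingCat.of k)) :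
    s ∈ AssSch.Ass (Coh.structureModule (Spec (CommRingCat.of k))) := by
  obtain ⟨s', hs', -⟩ := exists_ass_specializes_structure s
  rwa [Subsingleton.elim s s']

theorem noEmbedded_of_isIntegral {X : Scheme.{u}} [IsIntegral X] [IsLocallyNoetherian X] :
    AssSch.NoEmbedded (Coh.structureModule X) := by
  intro x hx y hy hsp
  obtain ⟨U, hU, hxU, -⟩ := exists_isAffineOpen_mem_and_subset (X := X) (x := x) (U := ⊤) trivial
  have hyU : y ∈ U := hsp.mem_open U.isOpen hxU
  haveI : Nonempty U := ⟨⟨x, hxU⟩⟩
  haveI : IsNoetherianRing Γ(X, U) := IsLocallyNoetherian.component_noetherian ⟨U, hU⟩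
  have bot : ∀ (w : X) (hw : w ∈ U), w ∈ AssSch.Ass (Coh.structureModule X) →
      primeAt (⟨U, hU⟩ : X.affineOpens) w hw = ⊥ := by
    intro w hw hass
    rw [mem_ass_iff_associated _ (isQCoh_structureModule X) ⟨U, hU⟩ w hw] at hass
    obtain ⟨hp, m, hm⟩ := hass
    refine le_bot_iff.mp fun a ha => ?_
    rw [hm] at ha
    obtain ⟨n, hn⟩ := ha
    rw [Submodule.mem_colon_singleton, Submodule.mem_bot] at hn
    have hm0 : (show Γ(X, U) from m) ≠ 0 := by
      intro h0
      apply hp.ne_top
      rw [hm, Ideal.radical_eq_top, Submodule.colon_eq_top_iff_subset]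
      rintro _ rfl
      exact h0
    exact pow_eq_zero_iff' .. |>.mp ((mul_eq_zero.mp (show a ^ n * (show Γ(X, U) from m) = 0 from hn)).resolve_right hm0) |>.1
  have := (bot x hxU hx).trans (bot y hyU hy).symm
  have h2 := congrArg hU.fromSpec (PrimeSpectrum.ext (x := hU.primeIdealOf ⟨x, hxU⟩) (y := hU.primeIdealOf ⟨y, hyU⟩) this)
  rwa [hU.fromSpec_primeIdealOf, hU.fromSpec_primeIdealOf] at h2

theorem noEmbedded_product_field {k : Type u} [Field k] {X Y : Scheme.{u}}
    (f : X ⟶ Spec (CommRingCat.of k)) (g : Y ⟶ Spec (CommRingCat.of k))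
    [IsLocallyNoetherian X] [IsLocallyNoetherian Y] [IsLocallyNoetherian (pullback f g)]
    (hX : AssSch.NoEmbedded (Coh.structureModule X)) (hY : AssSch.NoEmbedded (Coh.structureModule Y)) :
    AssSch.NoEmbedded (Coh.structureModule (pullback f g)) := by
  have hqY := isQCoh_structureModule Y
  rw [← noEmbedded_congr (structTensorIso (pullback.fst f g) (pullback.snd f g))]
  refine noEmbedded_tensor f g _ (isQCoh_structureModule X) _ hqY (isFlatOver_field g _) hX
    fun x hx a ha a' ha' hsp => ?_
  have key : ∀ b ∈ AssSch.Ass ((Scheme.Modules.pullback (g.fiberι (f x))).obj (Coh.structureModule Y)),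
      g.fiberι (f x) b ∈ AssSch.Ass (Coh.structureModule Y) := by
    intro b hb
    rw [mem_ass_iff_fibre g _ hqY (isFlatOver_field g _), fiberι_over]
    exact ⟨ass_field _, b, hb, rfl⟩
  exact hY _ (key a ha) _ (key a' ha') hsp

theorem noEmbedded_of_product_field {k : Type u} [Field k] {X Y : Scheme.{u}}
    (f : X ⟶ Spec (CommRingCat.of k)) (g : Y ⟶ Spec (CommRingCat.of k))
    [IsLocallyNoetherian X] [IsLocallyNoetherian Y] [IsLocallyNoetherian (pullback f g)] [Flat (pullback.fst f g)]
    [Nonempty Y]
    (hP : AssSch.NoEmbedded (Coh.structureModule (pullback f g))) :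
    AssSch.NoEmbedded (Coh.structureModule X) := by
  let h := IsPullback.of_hasPullback f g
  have hqY := isQCoh_structureModule Y
  obtain ⟨y0, hy0, -⟩ := exists_ass_specializes_structure (Classical.arbitrary Y)
  obtain ⟨hgy0, hfib⟩ := (mem_ass_iff_fibre g _ hqY (isFlatOver_field g _) y0).mp hy0
  intro x hx x' hx' hsp
  -- associated points of the product over `(x, y₀)`
  have lift : ∀ w, w ∈ AssSch.Ass (Coh.structureModule X) →
      ∀ t ∈ AssSch.Ass (Coh.structureModule (pullback (X.fromSpecResidueField w ≫ f) (Y.fromSpecResidueField y0 ≫ g))),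
        resMap h w y0 t ∈ AssSch.Ass (Coh.structureModule (pullback f g)) := by
    intro w hw t ht
    rw [← ass_iso (structTensorIso (pullback.fst f g) (pullback.snd f g)),
      mem_ass_tensor h _ (isQCoh_structureModule X) _ hqY (isFlatOver_field g _), resMap_fst, resMap_snd]
    have e : f w = g y0 := Subsingleton.elim _ _
    exact ⟨hw, e ▸ hfib, t, ht, rfl⟩
  obtain ⟨t0, -⟩ := Scheme.Pullback.exists_preimage_pullback (f := X.fromSpecResidueField x ≫ f)
    (g := Y.fromSpecResidueField y0 ≫ g) (IsLocalRing.closedPoint _) (IsLocalRing.closedPoint _)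
    (Subsingleton.elim _ _)
  obtain ⟨t, ht, -⟩ := exists_ass_specializes_structure t0
  have hz := lift x hx t ht
  set z := resMap h x y0 t with hzdef
  have hzx : pullback.fst f g z = x := resMap_fst h x y0 t
  obtain ⟨z'', hz'', hz''x⟩ := Flat.generalizingMap (pullback.fst f g) (show x' ⤳ pullback.fst f g z from hzx.symm ▸ hsp)
  obtain ⟨z', hz', hz'sp⟩ := exists_ass_specializes_structure z''
  have e := hP z hz z' hz' (hz'sp.trans hz'')
  have hx'' : x ⤳ x' := by
    have := (hz'sp.map (pullback.fst f g).continuous)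
    rwa [← e, hzx, hz''x] at this
  haveI : Nonempty X := ⟨x⟩
  exact (Specializes.antisymm hx'' hsp).eq

end Groth.Agent.FBase64.AssTensor
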