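import Groth.Agent.FBase64.AssTensor.Prep

/-! Associated points of tensor products on a fibre product of schemes. -/

set_option autoImplicit false
set_option linter.style.haveILetI false
set_option backward.isDefEq.respectTransparency.types false
set_option maxHeartbeats 1000000
universe u

open CategoryTheory CategoryTheory.Limits AlgebraicGeometry TopologicalSpace TensorProduct

namespace Groth.Agent.FBase64.AssTensor

attribute [local instance] Algebra.TensorProduct.rightAlgebra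

open Div89 Groth.Agent.FBase64.AssSheaf

theorem primeAt_fromSpec {X : Scheme.{u}} {U : X.Opens} (hU : IsAffineOpen U) (P : Spec Γ(X, U))
    (h : hU.fromSpec P ∈ U) :
    primeAt (⟨U, hU⟩ : X.affineOpens) (hU.fromSpec P) h = (show PrimeSpectrum Γ(X, U) from P).asIdeal :=
  congrArg PrimeSpectrum.asIdeal
    (hU.fromSpec.isOpenEmbedding.injective (hU.fromSpec_primeIdealOf ⟨_, h⟩))

/-- Associated points of a fibre, read on an affine chart. -/
theorem mem_ass_fiber_iff {Y S : Scheme.{u}} (g : Y ⟶ S) [IsLocallyNoetherian Y] (G : Y.Modules)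
    (hG : Coh.IsQCoh G) {W : S.Opens} {V : Y.Opens} (hW : IsAffineOpen W) (hV : IsAffineOpen V)
    (e : V ≤ g ⁻¹ᵁ W) (r : Spec Γ(S, W)) (s : S) (hs : hW.fromSpec r = s) (y : Y) (hy : y ∈ V) :
    letI := (g.appLE W V e).hom.toAlgebra
    letI : Module Γ(S, W) Γ(G, V) := Module.compHom _ (g.appLE W V e).hom
    haveI : IsScalarTower Γ(S, W) Γ(Y, V) Γ(G, V) := IsScalarTower.of_algebraMap_smul fun _ _ => rfl
    (∃ y' ∈ AssSch.Ass ((Scheme.Modules.pullback (g.fiberι s)).obj G), g.fiberι s y' = y) ↔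
      ∃ P ∈ associatedPrimes ((show PrimeSpectrum Γ(S, W) from r).asIdeal.Fiber Γ(Y, V))
          (FlatCA.fiberMod (show PrimeSpectrum Γ(S, W) from r).asIdeal Γ(Y, V) Γ(G, V)),
        P.comap (Algebra.TensorProduct.includeRight :
          Γ(Y, V) →ₐ[Γ(S, W)] (show PrimeSpectrum Γ(S, W) from r).asIdeal.Fiber Γ(Y, V)).toRingHom =
            primeAt (⟨V, hV⟩ : Y.affineOpens) y hy := by
  letI := (g.appLE W V e).hom.toAlgebra
  letI : Module Γ(S, W) Γ(G, V) := Module.compHom _ (g.appLE W V e).hom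
  haveI : IsScalarTower Γ(S, W) Γ(Y, V) Γ(G, V) := IsScalarTower.of_algebraMap_smul fun _ _ => rfl
  haveI : IsNoetherianRing Γ(Y, V) := IsLocallyNoetherian.component_noetherian ⟨V, hV⟩
  let p := (show PrimeSpectrum Γ(S, W) from r).asIdeal
  let R := p.Fiber Γ(Y, V)
  haveI : IsNoetherianRing R := isNoetherianRing_fiber p
  obtain ⟨σ, hσ⟩ := exists_residueIso hW r s hs
  have w1 : Spec.map (CommRingCat.ofHom (algebraMap Γ(S, W) Γ(Y, V))) ≫ hW.fromSpec = hV.fromSpec ≫ g :=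
    IsAffineOpen.SpecMap_appLE_fromSpec g hW hV e
  let ι : pullback g (S.fromSpecResidueField s) ⟶ Y := pullback.fst _ _
  let d : Spec (CommRingCat.of R) ⟶ pullback g (S.fromSpecResidueField s) :=
    (pullbackSpecIso Γ(S, W) p.ResidueField Γ(Y, V)).inv ≫ (pullbackSymmetry _ _).hom ≫
      pullback.map _ _ g (S.fromSpecResidueField s) hV.fromSpec σ.hom hW.fromSpec w1 hσ.symm
  have hd : d ≫ ι = Spec.map (CommRingCat.ofHom (algebraMap Γ(Y, V) R)) ≫ hV.fromSpec := by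
    simp only [d, ι, pullback.map, Category.assoc, pullback.lift_fst, pullbackSymmetry_hom_comp_fst_assoc,
      pullbackSpecIso_inv_snd_assoc]
    rfl
  have hopen : IsOpenImmersion d := by dsimp only [d]; infer_instance
  have hrange : Set.range d = ⇑ι ⁻¹' (V : Set Y) := by
    dsimp only [d, ι]
    rw [← Category.assoc, Scheme.Hom.comp_base, TopCat.coe_comp, Set.range_comp,
      ((pullbackSpecIso Γ(S, W) p.ResidueField Γ(Y, V)).inv ≫ (pullbackSymmetry _ _).hom).surjective.range_eq,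
      Set.image_univ, Scheme.Pullback.range_map, hV.range_fromSpec,
      Set.range_eq_univ.mpr σ.hom.surjective, Set.preimage_univ, Set.inter_univ]
  have key : ∀ Q : Spec (CommRingCat.of R),
      d Q ∈ AssSch.Ass ((Scheme.Modules.pullback ι).obj G) ↔
        (show PrimeSpectrum R from Q).asIdeal ∈ associatedPrimes R (FlatCA.fiberMod p Γ(Y, V) Γ(G, V)) := by
    intro Q
    refine (FBase64.AssSheaf.mem_ass_pullback_iff d _ Q).symm.trans ?_
    refine (Set.ext_iff.mp (ass_iso ((Scheme.Modules.pullbackComp d ι).app G)) Q).trans ?_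
    exact mem_ass_pullback_spec G hG hV _ hd Q
  have hpt : ∀ (Q : Spec (CommRingCat.of R)), ι (d Q) = y ↔
      (show PrimeSpectrum R from Q).asIdeal.comap (algebraMap Γ(Y, V) R) = primeAt (⟨V, hV⟩ : Y.affineOpens) y hy := by
    intro Q
    rw [← Scheme.Hom.comp_apply, hd, Scheme.Hom.comp_apply]
    constructor
    · intro h
      subst h
      exact (primeAt_fromSpec hV _ hy).symm
    · intro h
      refine Eq.trans (congrArg hV.fromSpec ?_) (hV.fromSpec_primeIdealOf ⟨y, hy⟩)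
      exact PrimeSpectrum.ext h
  show (∃ y' ∈ AssSch.Ass ((Scheme.Modules.pullback ι).obj G), ι y' = y) ↔ _
  constructor
  · rintro ⟨y', hy', hyy⟩
    obtain ⟨Q, rfl⟩ : y' ∈ Set.range d := by rw [hrange, Set.mem_preimage, hyy]; exact hy
    exact ⟨_, (key Q).mp hy', (hpt Q).mp hyy⟩
  · rintro ⟨P, hP, hPy⟩
    exact ⟨d ⟨P, hP.1⟩, (key ⟨P, hP.1⟩).mpr hP, (hpt ⟨P, hP.1⟩).mpr hPy⟩

variable {X Y S P : Scheme.{u}} {f : X ⟶ S} {g : Y ⟶ S} {pr1 : P ⟶ X} {pr2 : P ⟶ Y}

/-- The map from a product of residue fields. -/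
noncomputable def resMap (h : IsPullback pr1 pr2 f g) (x : X) (y : Y) :
    pullback (X.fromSpecResidueField x ≫ f) (Y.fromSpecResidueField y ≫ g) ⟶ P :=
  h.lift (pullback.fst _ _ ≫ X.fromSpecResidueField x) (pullback.snd _ _ ≫ Y.fromSpecResidueField y)
    (by rw [Category.assoc, Category.assoc]; exact pullback.condition)

theorem resMap_fst (h : IsPullback pr1 pr2 f g) (x : X) (y : Y) (t) :
    pr1 (resMap h x y t) = x := by
  rw [← Scheme.Hom.comp_apply, resMap, h.lift_fst, Scheme.Hom.comp_apply]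
  exact Scheme.fromSpecResidueField_apply x _

theorem resMap_snd (h : IsPullback pr1 pr2 f g) (x : X) (y : Y) (t) :
    pr2 (resMap h x y t) = y := by
  rw [← Scheme.Hom.comp_apply, resMap, h.lift_snd, Scheme.Hom.comp_apply]
  exact Scheme.fromSpecResidueField_apply y _

/-- An affine chart around a point of a fibre product. -/
theorem exists_affine_pushout (h : IsPullback pr1 pr2 f g) (z : P) {W : S.Opens} {U : X.Opens} {V : Y.Opens}
    (hW : IsAffineOpen W) (hU : IsAffineOpen U) (hV : IsAffineOpen V) (eU : U ≤ f ⁻¹ᵁ W) (eV : V ≤ g ⁻¹ᵁ W)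
    (hx : pr1 z ∈ U) (hy : pr2 z ∈ V) :
    ∃ (W0 : P.Opens) (_ : IsAffineOpen W0) (_ : z ∈ W0) (e1 : W0 ≤ pr1 ⁻¹ᵁ U) (e2 : W0 ≤ pr2 ⁻¹ᵁ V),
      letI := (f.appLE W U eU).hom.toAlgebra
      letI := (g.appLE W V eV).hom.toAlgebra
      letI := (pr1.appLE U W0 e1).hom.toAlgebra
      letI := (pr2.appLE V W0 e2).hom.toAlgebra
      letI : Algebra Γ(S, W) Γ(P, W0) := ((pr1.appLE U W0 e1).hom.comp (f.appLE W U eU).hom).toAlgebra
      ∃ (_ : IsScalarTower Γ(S, W) Γ(X, U) Γ(P, W0)) (_ : IsScalarTower Γ(S, W) Γ(Y, V) Γ(P, W0)),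
        Algebra.IsPushout Γ(S, W) Γ(X, U) Γ(Y, V) Γ(P, W0) := by
  letI := (f.appLE W U eU).hom.toAlgebra
  letI := (g.appLE W V eV).hom.toAlgebra
  let T0 := Γ(X, U) ⊗[Γ(S, W)] Γ(Y, V)
  let c : Spec (CommRingCat.of T0) ⟶ P :=
    ((pullbackSpecIso Γ(S, W) Γ(X, U) Γ(Y, V)).inv ≫
      pullback.map _ _ f g hU.fromSpec hV.fromSpec hW.fromSpec
        (IsAffineOpen.SpecMap_appLE_fromSpec f hW hU eU)
        (IsAffineOpen.SpecMap_appLE_fromSpec g hW hV eV)) ≫ h.isoPullback.inv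
  have hc1 : c ≫ pr1 = Spec.map (CommRingCat.ofHom (algebraMap Γ(X, U) T0)) ≫ hU.fromSpec := by
    dsimp only [c]
    rw [Category.assoc, h.isoPullback_inv_fst, Category.assoc, pullback.lift_fst, pullbackSpecIso_inv_fst_assoc]
  have hc2 : c ≫ pr2 = Spec.map (CommRingCat.ofHom (algebraMap Γ(Y, V) T0)) ≫ hV.fromSpec := by
    dsimp only [c]
    rw [Category.assoc, h.isoPullback_inv_snd, Category.assoc, pullback.lift_snd, pullbackSpecIso_inv_snd_assoc]
    rfl
  have : IsOpenImmersion c := by dsimp only [c]; infer_instance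
  let W0 := c.opensRange
  have hW0 : IsAffineOpen W0 := isAffineOpen_opensRange c
  have hz : z ∈ W0 := by
    show z ∈ Set.range c
    have hmem : h.isoPullback.hom z ∈ Set.range ((pullbackSpecIso Γ(S, W) Γ(X, U) Γ(Y, V)).inv ≫
        pullback.map _ _ f g hU.fromSpec hV.fromSpec hW.fromSpec
          (IsAffineOpen.SpecMap_appLE_fromSpec f hW hU eU)
          (IsAffineOpen.SpecMap_appLE_fromSpec g hW hV eV)) := by
      rw [Scheme.Hom.comp_base, TopCat.coe_comp, Set.range_comp,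
        (pullbackSpecIso Γ(S, W) Γ(X, U) Γ(Y, V)).inv.surjective.range_eq, Set.image_univ,
        Scheme.Pullback.range_map, hU.range_fromSpec, hV.range_fromSpec]
      refine ⟨?_, ?_⟩
      · rw [Set.mem_preimage, ← Scheme.Hom.comp_apply, h.isoPullback_hom_fst]; exact hx
      · rw [Set.mem_preimage, ← Scheme.Hom.comp_apply, h.isoPullback_hom_snd]; exact hy
    obtain ⟨Q, hQ⟩ := hmem
    refine ⟨Q, ?_⟩
    dsimp only [c]
    rw [Scheme.Hom.comp_apply, hQ, ← Scheme.Hom.comp_apply, Iso.hom_inv_id]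
    rfl
  have e1 : W0 ≤ pr1 ⁻¹ᵁ U := by
    rintro _ ⟨Q, rfl⟩
    show pr1 (c Q) ∈ U
    rw [← Scheme.Hom.comp_apply, hc1, Scheme.Hom.comp_apply]
    exact hU.range_fromSpec.subset ⟨_, rfl⟩
  have e2 : W0 ≤ pr2 ⁻¹ᵁ V := by
    rintro _ ⟨Q, rfl⟩
    show pr2 (c Q) ∈ V
    rw [← Scheme.Hom.comp_apply, hc2, Scheme.Hom.comp_apply]
    exact hV.range_fromSpec.subset ⟨_, rfl⟩
  refine ⟨W0, hW0, hz, e1, e2, ?_⟩
  letI := (pr1.appLE U W0 e1).hom.toAlgebra
  letI := (pr2.appLE V W0 e2).hom.toAlgebra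
  letI : Algebra Γ(S, W) Γ(P, W0) := ((pr1.appLE U W0 e1).hom.comp (f.appLE W U eU).hom).toAlgebra
  let ε := IsOpenImmersion.isoOfRangeEq c hW0.fromSpec (by rw [hW0.range_fromSpec]; rfl)
  let θ : Γ(P, W0) ⟶ CommRingCat.of T0 := Spec.preimage ε.hom
  let θ' : CommRingCat.of T0 ⟶ Γ(P, W0) := Spec.preimage ε.inv
  have hθ : Spec.map θ ≫ hW0.fromSpec = c := by
    rw [Spec.map_preimage]
    exact IsOpenImmersion.isoOfRangeEq_hom_fac _ _ _
  have h12 : θ ≫ θ' = 𝟙 _ := Spec.map_injective (by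
    rw [Spec.map_comp, Spec.map_preimage, Spec.map_preimage, Spec.map_id, ε.inv_hom_id])
  have h21 : θ' ≫ θ = 𝟙 _ := Spec.map_injective (by
    rw [Spec.map_comp, Spec.map_preimage, Spec.map_preimage, Spec.map_id, ε.hom_inv_id])
  have hA : pr1.appLE U W0 e1 ≫ θ = CommRingCat.ofHom (algebraMap Γ(X, U) T0) := by
    apply Spec.map_injective
    rw [← cancel_mono hU.fromSpec, Spec.map_comp, Category.assoc,
      IsAffineOpen.SpecMap_appLE_fromSpec pr1 hU hW0 e1, ← Category.assoc, hθ, hc1]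
  have hB : pr2.appLE V W0 e2 ≫ θ = CommRingCat.ofHom (algebraMap Γ(Y, V) T0) := by
    apply Spec.map_injective
    rw [← cancel_mono hV.fromSpec, Spec.map_comp, Category.assoc,
      IsAffineOpen.SpecMap_appLE_fromSpec pr2 hV hW0 e2, ← Category.assoc, hθ, hc2]
  have t1 : IsScalarTower Γ(S, W) Γ(X, U) Γ(P, W0) := IsScalarTower.of_algebraMap_eq fun _ => rfl
  have θinj : Function.Injective θ := Function.LeftInverse.injective (g := θ')
    (fun a => congr($(h12).hom a))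
  have t2 : IsScalarTower Γ(S, W) Γ(Y, V) Γ(P, W0) := IsScalarTower.of_algebraMap_eq fun a => θinj (by
    refine (congr($(hA).hom (f.appLE W U eU a))).trans (Eq.trans ?_ (congr($(hB).hom (g.appLE W V eV a))).symm)
    exact (IsScalarTower.algebraMap_apply Γ(S, W) Γ(X, U) T0 a).symm.trans
      ((IsScalarTower.algebraMap_apply Γ(S, W) Γ(Y, V) T0 a)))
  let eqv : T0 ≃ₐ[Γ(X, U)] Γ(P, W0) := AlgEquiv.ofRingEquiv
    (f := RingEquiv.ofRingHom θ'.hom θ.hom (congrArg CommRingCat.Hom.hom h12)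
      (congrArg CommRingCat.Hom.hom h21)) fun a => by
    show θ' (algebraMap Γ(X, U) T0 a) = pr1.appLE U W0 e1 a
    have := congr($(hA).hom a)
    refine (congrArg θ'.hom this.symm).trans ?_
    exact congr($(h12).hom (pr1.appLE U W0 e1 a))
  refine ⟨t1, t2, ?_⟩
  exact Algebra.IsPushout.of_equiv (R := Γ(S, W)) (R' := Γ(X, U)) (S := Γ(Y, V)) eqv (RingHom.ext fun b => by
    show θ' (algebraMap Γ(Y, V) T0 b) = pr2.appLE V W0 e2 b
    refine (congrArg θ'.hom (congr($(hB).hom b)).symm).trans ?_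
    exact congr($(h12).hom (pr2.appLE V W0 e2 b)))

/-- The associated points of `F ⊗ G` on a fibre product, for `G` flat. -/
theorem mem_ass_tensor (h : IsPullback pr1 pr2 f g) [IsLocallyNoetherian X] [IsLocallyNoetherian Y]
    [IsLocallyNoetherian P] (F : X.Modules) (hF : Coh.IsQCoh F) (G : Y.Modules) (hG : Coh.IsQCoh G)
    (hGfl : FlatMod.IsFlatOver g G) (z : P) :
    z ∈ AssSch.Ass (CohB1.tensorMod ((Scheme.Modules.pullback pr1).obj F) ((Scheme.Modules.pullback pr2).obj G)) ↔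
      pr1 z ∈ AssSch.Ass F ∧
      (∃ y' ∈ AssSch.Ass ((Scheme.Modules.pullback (g.fiberι (f (pr1 z)))).obj G),
        g.fiberι (f (pr1 z)) y' = pr2 z) ∧
      ∃ t ∈ AssSch.Ass (Coh.structureModule
          (pullback (X.fromSpecResidueField (pr1 z) ≫ f) (Y.fromSpecResidueField (pr2 z) ≫ g))),
        resMap h (pr1 z) (pr2 z) t = z := by
  haveI : F.IsQuasicoherent := hF
  haveI : G.IsQuasicoherent := hG
  set x := pr1 z with hxdef
  set y := pr2 z with hydef
  have hfg : g y = f x := by rw [hxdef, hydef, ← Scheme.Hom.comp_apply, ← Scheme.Hom.comp_apply, h.w]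
  obtain ⟨W, hW, hsW, -⟩ := exists_isAffineOpen_mem_and_subset (X := S) (x := f x) (U := ⊤) trivial
  obtain ⟨U, hU, hxU, eU⟩ := exists_isAffineOpen_mem_and_subset (X := X) (x := x) (U := f ⁻¹ᵁ W) hsW
  obtain ⟨V, hV, hyV, eV⟩ := exists_isAffineOpen_mem_and_subset (X := Y) (x := y) (U := g ⁻¹ᵁ W)
    (show g y ∈ W from hfg ▸ hsW)
  obtain ⟨W0, hW0, hzW0, e1, e2, t1, t2, hpush⟩ := exists_affine_pushout h z hW hU hV eU eV hxU hyV
  letI := (f.appLE W U eU).hom.toAlgebra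
  letI := (g.appLE W V eV).hom.toAlgebra
  letI := (pr1.appLE U W0 e1).hom.toAlgebra
  letI := (pr2.appLE V W0 e2).hom.toAlgebra
  letI : Algebra Γ(S, W) Γ(P, W0) := ((pr1.appLE U W0 e1).hom.comp (f.appLE W U eU).hom).toAlgebra
  haveI := t1
  haveI := t2
  haveI := hpush
  letI : Module Γ(S, W) Γ(G, V) := Module.compHom _ (g.appLE W V eV).hom
  haveI : IsScalarTower Γ(S, W) Γ(Y, V) Γ(G, V) := IsScalarTower.of_algebraMap_smul fun _ _ => rfl
  haveI : Module.Flat Γ(S, W) Γ(G, V) :=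
    FlatMor68.FlatSections.flat_sections g eV hV hW (QC70.isLocAt_of_isQuasicoherent G hV) fun y _ => hGfl y
  haveI : IsNoetherianRing Γ(X, U) := IsLocallyNoetherian.component_noetherian ⟨U, hU⟩
  haveI : IsNoetherianRing Γ(Y, V) := IsLocallyNoetherian.component_noetherian ⟨V, hV⟩
  haveI : IsNoetherianRing Γ(P, W0) := IsLocallyNoetherian.component_noetherian ⟨W0, hW0⟩
  haveI := QCPull72.isQuasicoherent_pullback pr1 F
  haveI := QCPull72.isQuasicoherent_pullback pr2 G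
  rw [mem_ass_iff_associated _ (QCTens72.isQuasicoherent_tensorMod _ _) ⟨W0, hW0⟩ z hzW0]
  let Q := primeAt (⟨W0, hW0⟩ : P.affineOpens) z hzW0
  have hp : Q.comap (algebraMap Γ(X, U) Γ(P, W0)) = primeAt (⟨U, hU⟩ : X.affineOpens) x hxU :=
    comap_primeAt pr1 ⟨U, hU⟩ ⟨W0, hW0⟩ e1 z hzW0
  have hq : Q.comap (algebraMap Γ(Y, V) Γ(P, W0)) = primeAt (⟨V, hV⟩ : Y.affineOpens) y hyV :=
    comap_primeAt pr2 ⟨V, hV⟩ ⟨W0, hW0⟩ e2 z hzW0
  have hr : (primeAt (⟨U, hU⟩ : X.affineOpens) x hxU).comap (algebraMap Γ(S, W) Γ(X, U)) =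
      primeAt (⟨W, hW⟩ : S.affineOpens) (f x) hsW :=
    comap_primeAt f ⟨W, hW⟩ ⟨U, hU⟩ eU x hxU
  let p0 : PrimeSpectrum Γ(X, U) := hU.primeIdealOf ⟨x, hxU⟩
  let q0 : PrimeSpectrum Γ(Y, V) := hV.primeIdealOf ⟨y, hyV⟩
  let r0 : PrimeSpectrum Γ(S, W) := PrimeSpectrum.comap (algebraMap Γ(S, W) Γ(X, U)) p0
  have hr0 : hW.fromSpec r0 = f x := by
    refine Eq.trans (congrArg hW.fromSpec ?_) (hW.fromSpec_primeIdealOf ⟨f x, hsW⟩)
    exact PrimeSpectrum.ext hr
  -- the product of the residue fields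
  obtain ⟨σx, hσx⟩ := exists_residueIso hU p0 x (hU.fromSpec_primeIdealOf ⟨x, hxU⟩)
  obtain ⟨σy, hσy⟩ := exists_residueIso hV q0 y (hV.fromSpec_primeIdealOf ⟨y, hyV⟩)
  let L := p0.asIdeal.ResidueField ⊗[Γ(S, W)] q0.asIdeal.ResidueField
  let ψ := toResidueTensor (C := Γ(S, W)) (T := Γ(P, W0)) p0.asIdeal q0.asIdeal
  haveI : IsNoetherianRing L := isNoetherianRing_residue (T := Γ(P, W0)) _ _
  have wx : Spec.map (CommRingCat.ofHom (algebraMap Γ(S, W) p0.asIdeal.ResidueField)) ≫ hW.fromSpec =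
      σx.hom ≫ X.fromSpecResidueField x ≫ f := by
    rw [reassoc_of% hσx, ← IsAffineOpen.SpecMap_appLE_fromSpec f hW hU eU, ← Spec.map_comp_assoc,
      IsScalarTower.algebraMap_eq Γ(S, W) Γ(X, U) p0.asIdeal.ResidueField, CommRingCat.ofHom_comp]
    rfl
  have wy : Spec.map (CommRingCat.ofHom (algebraMap Γ(S, W) q0.asIdeal.ResidueField)) ≫ hW.fromSpec =
      σy.hom ≫ Y.fromSpecResidueField y ≫ g := by
    rw [reassoc_of% hσy, ← IsAffineOpen.SpecMap_appLE_fromSpec g hW hV eV, ← Spec.map_comp_assoc,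
      IsScalarTower.algebraMap_eq Γ(S, W) Γ(Y, V) q0.asIdeal.ResidueField, CommRingCat.ofHom_comp]
    rfl
  let m : Spec (CommRingCat.of L) ⟶ pullback (X.fromSpecResidueField x ≫ f) (Y.fromSpecResidueField y ≫ g) :=
    (pullbackSpecIso Γ(S, W) p0.asIdeal.ResidueField q0.asIdeal.ResidueField).inv ≫
      pullback.map _ _ _ _ σx.hom σy.hom hW.fromSpec wx wy
  haveI : IsOpenImmersion m := by dsimp only [m]; infer_instance
  haveI : IsIso m := by
    refine isIso_of_isOpenImmersion_of_opensRange_eq_top m (TopologicalSpace.Opens.ext ?_)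
    show Set.range m = Set.univ
    dsimp only [m]
    rw [Scheme.Hom.comp_base, TopCat.coe_comp, Set.range_comp,
      (pullbackSpecIso Γ(S, W) p0.asIdeal.ResidueField q0.asIdeal.ResidueField).inv.surjective.range_eq,
      Set.image_univ, Scheme.Pullback.range_map, Set.range_eq_univ.mpr σx.hom.surjective,
      Set.range_eq_univ.mpr σy.hom.surjective, Set.preimage_univ, Set.preimage_univ, Set.inter_univ]
  have hm : m ≫ resMap h x y = Spec.map (CommRingCat.ofHom ψ) ≫ hW0.fromSpec := by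
    apply h.hom_ext
    · simp only [Category.assoc, resMap, h.lift_fst]
      rw [← IsAffineOpen.SpecMap_appLE_fromSpec pr1 hU hW0 e1, ← Spec.map_comp_assoc]
      simp only [m, pullback.map, Category.assoc, pullback.lift_fst_assoc, hσx, pullbackSpecIso_inv_fst_assoc]
      rw [← Spec.map_comp_assoc]
      congr 2
      ext a
      change (algebraMap Γ(X, U) p0.asIdeal.ResidueField a) ⊗ₜ[Γ(S, W)] (1 : q0.asIdeal.ResidueField) =
        ψ (algebraMap Γ(X, U) Γ(P, W0) a)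
      exact (toResidueTensor_left (C := Γ(S, W)) (T := Γ(P, W0)) p0.asIdeal q0.asIdeal a).symm
    · simp only [Category.assoc, resMap, h.lift_snd]
      rw [← IsAffineOpen.SpecMap_appLE_fromSpec pr2 hV hW0 e2, ← Spec.map_comp_assoc]
      simp only [m, pullback.map, Category.assoc, pullback.lift_snd_assoc, hσy, pullbackSpecIso_inv_snd_assoc]
      rw [← Spec.map_comp_assoc]
      congr 2
      ext b
      change (1 : p0.asIdeal.ResidueField) ⊗ₜ[Γ(S, W)] (algebraMap Γ(Y, V) q0.asIdeal.ResidueField b) =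
        ψ (algebraMap Γ(Y, V) Γ(P, W0) b)
      exact (toResidueTensor_right (C := Γ(S, W)) (T := Γ(P, W0)) p0.asIdeal q0.asIdeal b).symm
  have hT : (∃ t ∈ AssSch.Ass (Coh.structureModule
        (pullback (X.fromSpecResidueField x ≫ f) (Y.fromSpecResidueField y ≫ g))), resMap h x y t = z) ↔
      ∃ Q3 ∈ associatedPrimes L L, Q3.comap ψ = Q := by
    constructor
    · rintro ⟨t, ht, htz⟩
      obtain ⟨t, rfl⟩ : t ∈ Set.range m := by rw [Set.range_eq_univ.mpr m.surjective]; trivial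
      rw [← mem_ass_structure_iso m, mem_ass_structure_spec] at ht
      refine ⟨_, ht, ?_⟩
      rw [← Scheme.Hom.comp_apply, hm, Scheme.Hom.comp_apply] at htz
      have h3 : primeAt (⟨W0, hW0⟩ : P.affineOpens) z hzW0 = _ :=
        (congrArg PrimeSpectrum.asIdeal (hW0.fromSpec.isOpenEmbedding.injective
          ((hW0.fromSpec_primeIdealOf ⟨z, hzW0⟩).trans htz.symm)))
      exact h3.symm
    · rintro ⟨Q3, hQ3, hQ⟩
      refine ⟨m ⟨Q3, hQ3.1⟩, (mem_ass_structure_iso m _).mp ((mem_ass_structure_spec _).mpr hQ3), ?_⟩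
      rw [← Scheme.Hom.comp_apply, hm, Scheme.Hom.comp_apply]
      exact Eq.trans (congrArg hW0.fromSpec (PrimeSpectrum.ext hQ)) (hW0.fromSpec_primeIdealOf ⟨z, hzW0⟩)
  rw [hT, mem_ass_fiber_iff g G hG hW hV eV r0 (f x) hr0 y hyV, mem_ass_iff_associated F hF ⟨U, hU⟩ x hxU]
  refine ((QCTens72.sectionsTensorEquiv _ _ hW0).trans
    (TensorProduct.congr (QCPull72.sectionsPullbackEquiv pr1 F hU hW0 e1)
      (QCPull72.sectionsPullbackEquiv pr2 G hV hW0 e2))).isAssociatedPrime_iff.trans ?_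
  refine (mem_ass_iff (C := Γ(S, W)) Γ(F, U) Γ(G, V) Q).trans ?_
  constructor
  · rintro ⟨p, hpM, q, hfib, Q3, hQ3, hQ⟩
    have hQp : Q3.IsPrime := hQ3.1
    obtain rfl : p = p0 := PrimeSpectrum.ext (by
      rw [← comap_left_of_isPrime (T := Γ(P, W0)) p.asIdeal q.asIdeal Q3, hQ]; exact hp)
    obtain rfl : q = q0 := PrimeSpectrum.ext (by
      rw [← comap_right_of_isPrime (T := Γ(P, W0)) p0.asIdeal q.asIdeal Q3, hQ]; exact hq)
    exact ⟨hpM, hfib, Q3, hQ3, hQ⟩
  · rintro ⟨hpM, hfib, Q3, hQ3, hQ⟩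
    exact ⟨p0, hpM, q0, hfib, Q3, hQ3, hQ⟩

end Groth.Agent.FBase64.AssTensor
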