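import Groth.Agent.FBase64.AssTensor.Fiber
import Mathlib.RingTheory.IsTensorProduct

/-! Associated primes of the tensor product of two modules over a pushout of rings. -/

set_option autoImplicit false
set_option linter.style.haveILetI false
set_option maxHeartbeats 1000000
universe u

open TensorProduct

namespace Groth.Agent.FBase64.AssTensor

attribute [local instance] Algebra.TensorProduct.rightAlgebra

section

variable {C A B T : Type u} [CommRing C] [CommRing A] [CommRing B] [CommRing T]
  [Algebra C A] [Algebra C B] [Algebra C T] [Algebra A T] [Algebra B T]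
  [IsScalarTower C A T] [IsScalarTower C B T]

/-- The map from the pushout to the tensor product of residue fields. -/
noncomputable def toResidueTensor [Algebra.IsPushout C A B T] (p : Ideal A) [p.IsPrime] (q : Ideal B) [q.IsPrime] :
    T →+* p.ResidueField ⊗[C] q.ResidueField :=
  (Algebra.TensorProduct.map (IsScalarTower.toAlgHom C A p.ResidueField)
      (IsScalarTower.toAlgHom C B q.ResidueField)).toRingHom.comp
    (Algebra.IsPushout.equiv C A B T).symm.toRingHom

variable [Algebra.IsPushout C A B T] (p : Ideal A) [p.IsPrime] (q : Ideal B) [q.IsPrime]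

theorem toResidueTensor_left (a : A) :
    toResidueTensor (C := C) (T := T) p q (algebraMap A T a) =
      algebraMap A p.ResidueField a ⊗ₜ[C] (1 : q.ResidueField) := by
  simp [toResidueTensor, Algebra.IsPushout.equiv_symm_algebraMap_left]

theorem toResidueTensor_right (b : B) :
    toResidueTensor (C := C) (T := T) p q (algebraMap B T b) =
      (1 : p.ResidueField) ⊗ₜ[C] algebraMap B q.ResidueField b := by
  simp [toResidueTensor, Algebra.IsPushout.equiv_symm_algebraMap_right]

omit [Algebra C T] [IsScalarTower C A T] [IsScalarTower C B T] [Algebra.IsPushout C A B T] in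
theorem residueTensor_hom_ext {Z : Type*} [CommRing Z] {h₁ h₂ : p.ResidueField ⊗[C] q.ResidueField →+* Z}
    (hl : ∀ a : A, h₁ (algebraMap A p.ResidueField a ⊗ₜ 1) = h₂ (algebraMap A p.ResidueField a ⊗ₜ 1))
    (hr : ∀ b : B, h₁ (1 ⊗ₜ algebraMap B q.ResidueField b) = h₂ (1 ⊗ₜ algebraMap B q.ResidueField b)) :
    h₁ = h₂ := by
  have e1 : h₁.comp (Algebra.TensorProduct.includeLeftRingHom) =
      h₂.comp (Algebra.TensorProduct.includeLeftRingHom) := Ideal.ResidueField.ringHom_ext (RingHom.ext hl)
  have e2 : h₁.comp (Algebra.TensorProduct.includeRight : q.ResidueField →ₐ[C] p.ResidueField ⊗[C] q.ResidueField).toRingHom =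
      h₂.comp (Algebra.TensorProduct.includeRight : q.ResidueField →ₐ[C] p.ResidueField ⊗[C] q.ResidueField).toRingHom :=
    Ideal.ResidueField.ringHom_ext (RingHom.ext hr)
  refine RingHom.ext fun x => ?_
  induction x with
  | zero => simp
  | tmul a b =>
    have : a ⊗ₜ[C] b = (a ⊗ₜ[C] (1 : q.ResidueField)) * ((1 : p.ResidueField) ⊗ₜ[C] b) := by simp
    rw [this, map_mul, map_mul]
    exact congr_arg₂ (· * ·) (RingHom.congr_fun e1 a) (RingHom.congr_fun e2 b)
  | add x y hx hy => simp only [map_add, hx, hy]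

end

/-- Associated primes are transported by ring isomorphisms. -/
theorem map_mem_associatedPrimes {R R' : Type u} [CommRing R] [CommRing R'] (e : R ≃+* R') (P : Ideal R)
    (hP : P ∈ associatedPrimes R R) : P.comap e.symm.toRingHom ∈ associatedPrimes R' R' := by
  obtain ⟨hp, x, hx⟩ := hP
  refine ⟨hp.comap _, e x, ?_⟩
  ext a
  rw [Ideal.mem_comap, hx]
  simp only [Ideal.mem_radical_iff, Submodule.mem_colon_singleton, Submodule.mem_bot, smul_eq_mul]
  refine exists_congr fun n => ?_
  rw [← map_pow, ← map_eq_zero_iff e e.injective, map_mul]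
  simp

/-- Associated primes are transported by linear isomorphisms. -/
theorem ass_congr {R M M' : Type u} [CommRing R] [AddCommGroup M] [Module R M] [AddCommGroup M'] [Module R M']
    (e : M ≃ₗ[R] M') (P : Ideal R) : P ∈ associatedPrimes R M ↔ P ∈ associatedPrimes R M' :=
  e.isAssociatedPrime_iff

variable {C A B T : Type u} [CommRing C] [CommRing A] [CommRing B] [CommRing T]
  [Algebra C A] [Algebra C B] [Algebra C T] [Algebra A T] [Algebra B T]
  [IsScalarTower C A T] [IsScalarTower C B T] [Algebra.IsPushout C A B T]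

/-- The double fibre ring is the tensor product of residue fields. -/
theorem comparison (p : Ideal A) [p.IsPrime] (r : Ideal C) [r.IsPrime] (hr : p.comap (algebraMap C A) = r)
    [Algebra (r.Fiber B) (p.Fiber T)]
    (hγ : ∀ b : B, algebraMap (r.Fiber B) (p.Fiber T) ((1 : r.ResidueField) ⊗ₜ[C] b) =
      (1 : p.ResidueField) ⊗ₜ[A] algebraMap B T b)
    (P : PrimeSpectrum (r.Fiber B)) (q : PrimeSpectrum B)
    (hPq : P.asIdeal.comap (Algebra.TensorProduct.includeRight : B →ₐ[C] r.Fiber B).toRingHom = q.asIdeal) :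
    (∀ E ∈ associatedPrimes (P.asIdeal.Fiber (p.Fiber T)) (P.asIdeal.Fiber (p.Fiber T)),
      ∃ Q3 ∈ associatedPrimes (p.ResidueField ⊗[C] q.asIdeal.ResidueField) (p.ResidueField ⊗[C] q.asIdeal.ResidueField),
        ∀ t : T, toResidueTensor (C := C) (T := T) p q.asIdeal t ∈ Q3 ↔
          (1 : P.asIdeal.ResidueField) ⊗ₜ[r.Fiber B] ((1 : p.ResidueField) ⊗ₜ[A] t) ∈ E) ∧
    (∀ Q3 ∈ associatedPrimes (p.ResidueField ⊗[C] q.asIdeal.ResidueField) (p.ResidueField ⊗[C] q.asIdeal.ResidueField),
      ∃ E ∈ associatedPrimes (P.asIdeal.Fiber (p.Fiber T)) (P.asIdeal.Fiber (p.Fiber T)),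
        ∀ t : T, (1 : P.asIdeal.ResidueField) ⊗ₜ[r.Fiber B] ((1 : p.ResidueField) ⊗ₜ[A] t) ∈ E ↔
          toResidueTensor (C := C) (T := T) p q.asIdeal t ∈ Q3) := by
  have hqr : r = q.asIdeal.comap (algebraMap C B) := by
    rw [← hPq]
    ext c
    change c ∈ r ↔ (1 : r.ResidueField) ⊗ₜ[C] algebraMap C B c ∈ P.asIdeal
    have hc : (1 : r.ResidueField) ⊗ₜ[C] algebraMap C B c =
        algebraMap r.ResidueField (r.Fiber B) (algebraMap C r.ResidueField c) := by
      rw [← IsScalarTower.algebraMap_apply]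
      exact (Algebra.TensorProduct.includeRight : B →ₐ[C] r.Fiber B).commutes c
    rw [hc]
    constructor
    · intro h
      rw [Ideal.algebraMap_residueField_eq_zero.2 h, map_zero]
      exact P.asIdeal.zero_mem
    · intro h
      by_contra hc'
      exact P.2.ne_top (Ideal.eq_top_of_isUnit_mem _ h
        ((isUnit_iff_ne_zero.2 fun e => hc' (Ideal.algebraMap_residueField_eq_zero.1 e)).map _))
  let φq : r.ResidueField →ₐ[C] q.asIdeal.ResidueField :=
    Ideal.ResidueField.mapₐ r q.asIdeal (Algebra.ofId C B) hqr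
  let g : r.Fiber B →ₐ[C] q.asIdeal.ResidueField :=
    Algebra.TensorProduct.productMap φq (IsScalarTower.toAlgHom C B q.asIdeal.ResidueField)
  have hg : ∀ b : B, g ((1 : r.ResidueField) ⊗ₜ[C] b) = algebraMap B q.asIdeal.ResidueField b := fun b =>
    (Algebra.TensorProduct.productMap_apply_tmul _ _ _ _).trans (by rw [map_one, one_mul]; rfl)
  have hker : ∀ x : r.Fiber B, g x = 0 ↔ x ∈ P.asIdeal := by
    intro x
    obtain ⟨c, hc, b, hx⟩ := Ideal.Fiber.exists_smul_eq_one_tmul (p := r) x
    have hu : IsUnit (algebraMap C (r.Fiber B) c) := by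
      rw [IsScalarTower.algebraMap_apply C r.ResidueField (r.Fiber B)]
      exact ((isUnit_iff_ne_zero).2 fun e => hc (Ideal.algebraMap_residueField_eq_zero.1 e)).map _
    rw [Algebra.smul_def] at hx
    rw [← (hu.map g).mul_right_eq_zero, ← map_mul, hx, hg, Ideal.algebraMap_residueField_eq_zero,
      ← Ideal.unit_mul_mem_iff_mem _ hu, hx, ← hPq]
    rfl
  let χ : P.asIdeal.ResidueField →+* q.asIdeal.ResidueField :=
    Ideal.ResidueField.lift P.asIdeal g.toRingHom (fun x hx => (hker x).2 hx)
      (fun x hx => isUnit_iff_ne_zero.2 fun e => hx ((hker x).1 e))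
  have hχ : ∀ x, χ (algebraMap (r.Fiber B) P.asIdeal.ResidueField x) = g x := fun x =>
    Ideal.ResidueField.lift_algebraMap _ _ _ _ x
  let ir : q.asIdeal.ResidueField →ₐ[C] p.ResidueField ⊗[C] q.asIdeal.ResidueField :=
    Algebra.TensorProduct.includeRight
  let ψ := toResidueTensor (C := C) (T := T) p q.asIdeal
  let ψA : T →ₐ[A] p.ResidueField ⊗[C] q.asIdeal.ResidueField :=
    { ψ with commutes' := fun a => toResidueTensor_left p q.asIdeal a }
  let τ : p.Fiber T →ₐ[A] p.ResidueField ⊗[C] q.asIdeal.ResidueField :=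
    Algebra.TensorProduct.productMap (Algebra.TensorProduct.includeLeft (S := A)) ψA
  have hτ1 : ∀ t : T, τ ((1 : p.ResidueField) ⊗ₜ[A] t) = ψ t := fun t =>
    (Algebra.TensorProduct.productMap_apply_tmul _ _ _ _).trans (by rw [map_one, one_mul]; rfl)
  have hτ : ∀ x, τ (algebraMap (r.Fiber B) (p.Fiber T) x) = ir (g x) := fun x =>
    RingHom.congr_fun (fiber_hom_ext r (h₁ := τ.toRingHom.comp (algebraMap (r.Fiber B) (p.Fiber T)))
      (h₂ := ir.toRingHom.comp g.toRingHom) fun b => by
        change τ (algebraMap (r.Fiber B) (p.Fiber T) _) = ir (g _)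
        rw [hγ, hτ1, hg]
        exact toResidueTensor_right p q.asIdeal b) x
  letI algBrL : Algebra (r.Fiber B) (p.ResidueField ⊗[C] q.asIdeal.ResidueField) :=
    (ir.toRingHom.comp g.toRingHom).toAlgebra
  let χL : P.asIdeal.ResidueField →ₐ[r.Fiber B] p.ResidueField ⊗[C] q.asIdeal.ResidueField :=
    { ir.toRingHom.comp χ with commutes' := fun x => congrArg ir (hχ x) }
  let τL : p.Fiber T →ₐ[r.Fiber B] p.ResidueField ⊗[C] q.asIdeal.ResidueField :=
    { τ.toRingHom with commutes' := hτ }
  let bwd : P.asIdeal.Fiber (p.Fiber T) →+* p.ResidueField ⊗[C] q.asIdeal.ResidueField :=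
    (Algebra.TensorProduct.productMap χL τL).toRingHom
  -- the map back
  let i2 : p.Fiber T →+* P.asIdeal.Fiber (p.Fiber T) :=
    (Algebra.TensorProduct.includeRight : p.Fiber T →ₐ[r.Fiber B] P.asIdeal.Fiber (p.Fiber T)).toRingHom
  let inT : T →+* P.asIdeal.Fiber (p.Fiber T) :=
    i2.comp (Algebra.TensorProduct.includeRight : T →ₐ[A] p.Fiber T).toRingHom
  let μ : q.asIdeal.ResidueField →ₐ[C] P.asIdeal.ResidueField :=
    Ideal.ResidueField.mapₐ q.asIdeal P.asIdeal (Algebra.TensorProduct.includeRight : B →ₐ[C] r.Fiber B) hPq.symm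
  have hμ : ∀ b : B, (algebraMap P.asIdeal.ResidueField (P.asIdeal.Fiber (p.Fiber T)))
      (μ (algebraMap B q.asIdeal.ResidueField b)) = inT (algebraMap B T b) := by
    intro b
    have h1 : μ (algebraMap B q.asIdeal.ResidueField b) =
        algebraMap (r.Fiber B) P.asIdeal.ResidueField ((1 : r.ResidueField) ⊗ₜ[C] b) :=
      Ideal.ResidueField.map_algebraMap _ _ _ _ _
    rw [h1, ← IsScalarTower.algebraMap_apply]
    refine ((Algebra.TensorProduct.includeRight :
      p.Fiber T →ₐ[r.Fiber B] P.asIdeal.Fiber (p.Fiber T)).commutes _).symm.trans ?_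
    exact congrArg i2 (hγ b)
  have hC : ∀ c : C, algebraMap C (P.asIdeal.Fiber (p.Fiber T)) c = inT (algebraMap C T c) := fun c => by
    rw [IsScalarTower.algebraMap_apply C P.asIdeal.ResidueField (P.asIdeal.Fiber (p.Fiber T)), ← μ.commutes c,
      IsScalarTower.algebraMap_apply C B q.asIdeal.ResidueField, hμ, ← IsScalarTower.algebraMap_apply C B T]
  let fl : p.ResidueField →ₐ[C] P.asIdeal.Fiber (p.Fiber T) :=
    { i2.comp (algebraMap p.ResidueField (p.Fiber T)) with
      commutes' := fun c => (congrArg i2 (by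
        rw [IsScalarTower.algebraMap_apply C A T]
        refine Eq.trans ?_ ((Algebra.TensorProduct.includeRight : T →ₐ[A] p.Fiber T).commutes
          (algebraMap C A c)).symm
        rw [IsScalarTower.algebraMap_apply C A p.ResidueField,
          ← IsScalarTower.algebraMap_apply A p.ResidueField (p.Fiber T)])).trans (hC c).symm }
  let fr : q.asIdeal.ResidueField →ₐ[C] P.asIdeal.Fiber (p.Fiber T) :=
    (IsScalarTower.toAlgHom C P.asIdeal.ResidueField (P.asIdeal.Fiber (p.Fiber T))).comp μ
  let fwd : p.ResidueField ⊗[C] q.asIdeal.ResidueField →+* P.asIdeal.Fiber (p.Fiber T) :=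
    (Algebra.TensorProduct.productMap (S := P.asIdeal.Fiber (p.Fiber T)) fl fr).toRingHom
  have hb : ∀ t : T, bwd (inT t) = ψ t := fun t =>
    (Algebra.TensorProduct.productMap_apply_tmul _ _ _ _).trans (by rw [map_one, one_mul]; exact hτ1 t)
  have hfA : ∀ a : A, fwd (ψ (algebraMap A T a)) = inT (algebraMap A T a) := fun a => by
    rw [show ψ (algebraMap A T a) = _ from toResidueTensor_left p q.asIdeal a]
    refine (Algebra.TensorProduct.productMap_apply_tmul _ _ _ _).trans ?_
    rw [map_one, mul_one]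
    exact congrArg i2 ((IsScalarTower.algebraMap_apply A p.ResidueField (p.Fiber T) a).symm.trans
      ((Algebra.TensorProduct.includeRight : T →ₐ[A] p.Fiber T).commutes a).symm)
  have hfB : ∀ b : B, fwd (ψ (algebraMap B T b)) = inT (algebraMap B T b) := fun b => by
    rw [show ψ (algebraMap B T b) = _ from toResidueTensor_right p q.asIdeal b]
    refine (Algebra.TensorProduct.productMap_apply_tmul _ _ _ _).trans ?_
    rw [map_one, one_mul]
    exact hμ b
  have hf : fwd.comp ψ = inT := by
    refine RingHom.ext fun t => ?_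
    obtain ⟨z, rfl⟩ := (Algebra.IsPushout.equiv C A B T).surjective t
    induction z with
    | zero => simp
    | add x y hx hy => simp only [map_add, hx, hy]
    | tmul a b =>
      rw [Algebra.IsPushout.equiv_tmul, map_mul, map_mul]
      exact congr_arg₂ (· * ·) (hfA a) (hfB b)
  have h1 : fwd.comp bwd = RingHom.id (P.asIdeal.Fiber (p.Fiber T)) := by
    refine fiber_hom_ext P.asIdeal fun s => ?_
    refine RingHom.congr_fun (fiber_hom_ext p (h₁ := (fwd.comp bwd).comp i2) (h₂ := i2) fun t => ?_) s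
    change fwd (bwd (inT t)) = inT t
    rw [hb, ← RingHom.comp_apply, hf]
  have h2 : bwd.comp fwd = RingHom.id (p.ResidueField ⊗[C] q.asIdeal.ResidueField) := by
    refine residueTensor_hom_ext _ _ (fun a => ?_) fun b => ?_
    · rw [← toResidueTensor_left (C := C) (T := T)]
      change bwd (fwd (ψ _)) = ψ _
      rw [← RingHom.comp_apply fwd, hf, hb]
    · rw [← toResidueTensor_right (C := C) (T := T)]
      change bwd (fwd (ψ _)) = ψ _
      rw [← RingHom.comp_apply fwd, hf, hb]
  let e := RingEquiv.ofRingHom bwd fwd h2 h1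
  refine ⟨?_, ?_⟩
  · intro E hE
    have := map_mem_associatedPrimes (R := P.asIdeal.Fiber (p.Fiber T))
      (R' := p.ResidueField ⊗[C] q.asIdeal.ResidueField) e E hE
    refine ⟨_, this, fun t => ?_⟩
    have h3 : fwd (ψ t) = inT t := RingHom.congr_fun hf t
    exact iff_of_eq (congrArg (· ∈ E) h3)
  · intro Q3 hQ3
    have := map_mem_associatedPrimes (R' := P.asIdeal.Fiber (p.Fiber T))
      (R := p.ResidueField ⊗[C] q.asIdeal.ResidueField) e.symm Q3 hQ3
    refine ⟨_, this, fun t => ?_⟩
    exact iff_of_eq (congrArg (· ∈ Q3) (hb t))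

/-- The associated primes of `M ⊗ N` in terms of fibres and residue fields. -/
theorem mem_ass_iff [IsNoetherianRing A] [IsNoetherianRing B] [IsNoetherianRing T]
    (M : Type u) [AddCommGroup M] [Module A M] (N : Type u) [AddCommGroup N] [Module B N]
    [Module C N] [IsScalarTower C B N] [Module.Flat C N] (Q : Ideal T) :
    Q ∈ associatedPrimes T ((T ⊗[A] M) ⊗[T] (T ⊗[B] N)) ↔
      ∃ p : PrimeSpectrum A, p.asIdeal ∈ associatedPrimes A M ∧ ∃ q : PrimeSpectrum B,
        (∃ P ∈ associatedPrimes ((p.asIdeal.comap (algebraMap C A)).Fiber B)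
            (FlatCA.fiberMod (p.asIdeal.comap (algebraMap C A)) B N),
          P.comap (Algebra.TensorProduct.includeRight :
            B →ₐ[C] (p.asIdeal.comap (algebraMap C A)).Fiber B).toRingHom = q.asIdeal) ∧
        ∃ Q3 ∈ associatedPrimes (p.asIdeal.ResidueField ⊗[C] q.asIdeal.ResidueField)
            (p.asIdeal.ResidueField ⊗[C] q.asIdeal.ResidueField),
          Q3.comap (toResidueTensor (C := C) (T := T) p.asIdeal q.asIdeal) = Q := by
  let N' := T ⊗[B] N
  letI : Module A N' := TensorProduct.leftModule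
  haveI : IsScalarTower A T N' := TensorProduct.isScalarTower_left
  haveI hflat : Module.Flat A N' :=
    Module.Flat.of_linearEquiv (Algebra.IsPushout.cancelBaseChange C A B T N)
  refine (ass_congr (M := (T ⊗[A] M) ⊗[T] N') (M' := N' ⊗[A] M) ((TensorProduct.comm T (T ⊗[A] M) N').trans
    (AlgebraTensorModule.cancelBaseChange A T T N' M)) Q).trans ?_
  rw [mem_ass_tensor_iff_fiber]
  refine exists_congr fun p => and_congr_right fun _ => ?_
  let r := p.asIdeal.comap (algebraMap C A)
  have hr : p.asIdeal.comap (algebraMap C A) = r := rfl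
  have hrp : r.IsPrime := Ideal.comap_isPrime _ _
  let Br := r.Fiber B
  let T2 := p.asIdeal.Fiber T
  let φ : r.ResidueField →ₐ[C] p.asIdeal.ResidueField :=
    Ideal.ResidueField.mapₐ r p.asIdeal (Algebra.ofId C A) hr.symm
  letI algκ : Algebra r.ResidueField p.asIdeal.ResidueField := φ.toRingHom.toAlgebra
  haveI : IsScalarTower C r.ResidueField p.asIdeal.ResidueField :=
    IsScalarTower.of_algebraMap_eq fun c => (φ.commutes c).symm
  let β : B →ₐ[C] T2 := ((Algebra.TensorProduct.includeRight : T →ₐ[A] T2).restrictScalars C).comp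
    (IsScalarTower.toAlgHom C B T)
  let γ : Br →ₐ[C] T2 := Algebra.TensorProduct.lift
    ((Algebra.TensorProduct.includeLeft (S := C) : p.asIdeal.ResidueField →ₐ[C] T2).comp φ) β
    fun _ _ => Commute.all _ _
  letI algBT2 : Algebra B T2 := β.toRingHom.toAlgebra
  letI algBrT2 : Algebra Br T2 := γ.toRingHom.toAlgebra
  haveI : IsScalarTower B T T2 := IsScalarTower.of_algebraMap_eq fun _ => rfl
  haveI : IsScalarTower C B T2 := IsScalarTower.of_algebraMap_eq fun c => (β.commutes c).symm
  haveI : IsScalarTower C T T2 := IsScalarTower.of_algebraMap_eq (R := C) (S := T) (A := T2) fun c => by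
    rw [IsScalarTower.algebraMap_apply C A T2, IsScalarTower.algebraMap_apply C A T]
    exact ((Algebra.TensorProduct.includeRight : T →ₐ[A] T2).commutes _).symm
  haveI : IsScalarTower B Br T2 := IsScalarTower.of_algebraMap_eq fun b => by
    refine ((Algebra.TensorProduct.lift_tmul _ _ _ (1 : r.ResidueField) b).trans ?_).symm
    rw [map_one, one_mul]
    rfl
  haveI : IsScalarTower r.ResidueField Br T2 := IsScalarTower.of_algebraMap_eq (R := r.ResidueField) (S := Br) (A := T2) fun c => by
    refine ((Algebra.TensorProduct.lift_tmul _ _ _ c (1 : B)).trans ?_).symm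
    rw [map_one, mul_one]
    rfl
  haveI : IsScalarTower C Br T2 := IsScalarTower.of_algebraMap_eq fun c => (γ.commutes c).symm
  haveI hP : Algebra.IsPushout C p.asIdeal.ResidueField B T2 :=
    (Algebra.IsPushout.comp_iff C A B T (T := p.asIdeal.ResidueField) (T' := T2)).mpr inferInstance
  haveI hP2 : Algebra.IsPushout r.ResidueField p.asIdeal.ResidueField Br T2 :=
    (Algebra.IsPushout.comp_iff C r.ResidueField B Br (T := p.asIdeal.ResidueField) (T' := T2)).mp hP
  haveI : Module.Flat Br T2 :=
    haveI := hP2.symm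
    Module.Flat.of_linearEquiv
      (Algebra.IsPushout.equiv r.ResidueField Br p.asIdeal.ResidueField T2).symm.toLinearEquiv
  haveI : IsNoetherianRing Br := isNoetherianRing_fiber r
  haveI : IsNoetherianRing T2 := isNoetherianRing_fiber p.asIdeal
  let eN : FlatCA.fiberMod p.asIdeal T N' ≃ₗ[T2] T2 ⊗[Br] FlatCA.fiberMod r B N :=
    (AlgebraTensorModule.cancelBaseChange B T T2 T2 N).trans
      (AlgebraTensorModule.cancelBaseChange B Br T2 T2 N).symm
  have key : ∀ Q2 : Ideal T2, Q2 ∈ associatedPrimes T2 (FlatCA.fiberMod p.asIdeal T N') ↔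
      ∃ P : PrimeSpectrum Br, P.asIdeal ∈ associatedPrimes Br (FlatCA.fiberMod r B N) ∧
        ∃ E ∈ associatedPrimes (P.asIdeal.Fiber T2) (P.asIdeal.Fiber T2),
          E.comap (Algebra.TensorProduct.includeRight : T2 →ₐ[Br] P.asIdeal.Fiber T2).toRingHom = Q2 := by
    intro Q2
    rw [ass_congr eN, mem_ass_tensor_iff_fiber]
    refine exists_congr fun P => and_congr_right fun _ => exists_congr fun E => and_congr_left fun _ => ?_
    exact LinearEquiv.isAssociatedPrime_iff (AlgebraTensorModule.rid T2 (P.asIdeal.Fiber T2) (P.asIdeal.Fiber T2))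
  have hγ : ∀ b : B, algebraMap Br T2 ((1 : r.ResidueField) ⊗ₜ[C] b) =
      (1 : p.asIdeal.ResidueField) ⊗ₜ[A] algebraMap B T b := fun b =>
    (IsScalarTower.algebraMap_apply B Br T2 b).symm
  constructor
  · rintro ⟨Q2, hQ2, hQ⟩
    obtain ⟨P, hP', E, hE, hEQ⟩ := (key Q2).mp hQ2
    let q : PrimeSpectrum B := PrimeSpectrum.comap
      (Algebra.TensorProduct.includeRight : B →ₐ[C] Br).toRingHom P
    obtain ⟨Q3, hQ3, h3⟩ := (comparison (C := C) p.asIdeal r rfl hγ P q rfl).1 E hE
    refine ⟨q, ⟨P.asIdeal, hP', rfl⟩, Q3, hQ3, ?_⟩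
    rw [← hQ, ← hEQ]
    ext t
    exact h3 t
  · rintro ⟨q, ⟨P, hP', hPq⟩, Q3, hQ3, hQ⟩
    have hPp : P.IsPrime := hP'.1
    obtain ⟨E, hE, h3⟩ := (comparison (C := C) p.asIdeal r rfl hγ ⟨P, hPp⟩ q hPq).2 Q3 hQ3
    refine ⟨_, (key _).mpr ⟨⟨P, hPp⟩, hP', E, hE, rfl⟩, ?_⟩
    rw [← hQ]
    ext t
    exact h3 t

end Groth.Agent.FBase64.AssTensor
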