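import Groth.Agent.S9669
import Groth.Agent.CAlg1.AssTensor
import Groth.Agent.CAlg6.FiberMod

/-! Associated primes through fibres. -/

set_option autoImplicit false
set_option linter.style.haveILetI false
universe u

open TensorProduct

namespace Groth.Agent.FBase64.AssTensor

attribute [local instance] Algebra.TensorProduct.rightAlgebra

variable {R S : Type u} [CommRing R] [CommRing S] [Algebra R S] (p : Ideal R) [p.IsPrime]

/-- Two homomorphisms out of a fibre ring agree when they agree on the ring. -/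
theorem fiber_hom_ext {Z : Type*} [Semiring Z] {h₁ h₂ : p.Fiber S →+* Z}
    (h : ∀ s : S, h₁ ((1 : p.ResidueField) ⊗ₜ[R] s) = h₂ ((1 : p.ResidueField) ⊗ₜ[R] s)) : h₁ = h₂ := by
  refine RingHom.ext fun x => ?_
  obtain ⟨r, hr, s, hx⟩ := Ideal.Fiber.exists_smul_eq_one_tmul (p := p) x
  have hu : IsUnit (algebraMap R (p.Fiber S) r) := by
    rw [IsScalarTower.algebraMap_apply R p.ResidueField (p.Fiber S)]
    exact ((isUnit_iff_ne_zero).2 fun e => hr (Ideal.algebraMap_residueField_eq_zero.1 e)).map _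
  have hr' : algebraMap R (p.Fiber S) r = (1 : p.ResidueField) ⊗ₜ[R] (algebraMap R S r) :=
    ((Algebra.TensorProduct.includeRight (R := R) (A := p.ResidueField) (B := S)).commutes r).symm
  rw [Algebra.smul_def] at hx
  have h₃ := h s
  rw [← hx, map_mul, map_mul, hr', h, ← hr'] at h₃
  exact (hu.map h₂).mul_right_inj.mp h₃

/-- An ideal of a fibre ring is extended from the ring. -/
theorem map_comap_fiber (I : Ideal (p.Fiber S)) :
    (I.comap (Algebra.TensorProduct.includeRight : S →ₐ[R] p.Fiber S).toRingHom).map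
      (Algebra.TensorProduct.includeRight : S →ₐ[R] p.Fiber S).toRingHom = I := by
  refine le_antisymm Ideal.map_comap_le fun x hx => ?_
  obtain ⟨r, hr, s, hs⟩ := Ideal.Fiber.exists_smul_eq_one_tmul (p := p) x
  have hu : IsUnit (algebraMap R (p.Fiber S) r) := by
    rw [IsScalarTower.algebraMap_apply R p.ResidueField (p.Fiber S)]
    exact ((isUnit_iff_ne_zero).2 fun e => hr (Ideal.algebraMap_residueField_eq_zero.1 e)).map _
  rw [Algebra.smul_def] at hs
  refine (Ideal.unit_mul_mem_iff_mem _ hu).1 ?_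
  rw [hs]
  refine Ideal.mem_map_of_mem _ (show (1 : p.ResidueField) ⊗ₜ[R] s ∈ I from ?_)
  rw [← hs]
  exact I.mul_mem_left _ hx

theorem isNoetherianRing_fiber [IsNoetherianRing S] : IsNoetherianRing (p.Fiber S) :=
  (isNoetherianRing_iff_ideal_fg _).mpr fun I => by
    rw [← map_comap_fiber p I]
    exact Ideal.FG.map ((isNoetherianRing_iff_ideal_fg S).mp ‹_› _) _

theorem ass_eq_associatedPrimes (A : Type u) [CommRing A] [IsNoetherianRing A] (M : Type u)
    [AddCommGroup M] [Module A M] : FlatCA.ass A M = associatedPrimes A M := by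
  have hcolon : ∀ m : M, (⊥ : Submodule A M).colon {m} = (Submodule.span A {m}).annihilator := by
    intro m
    ext a
    rw [Submodule.mem_colon_singleton, Submodule.mem_bot, Submodule.mem_annihilator_span_singleton]
  ext q
  constructor
  · rintro ⟨hq, m, hm⟩
    exact isAssociatedPrime_iff.mpr ⟨hq, m, by rw [hcolon, hm]⟩
  · intro h
    obtain ⟨hq, m, hm⟩ := isAssociatedPrime_iff.mp h
    exact ⟨hq, m, by rw [hm, hcolon]⟩

/-- Associated primes of a flat tensor product, through the fibre rings. -/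
theorem mem_ass_tensor_iff_fiber [IsNoetherianRing R] [IsNoetherianRing S] (N : Type u) [AddCommGroup N]
    [Module S N] [Module R N] [IsScalarTower R S N] [Module.Flat R N] (M : Type u) [AddCommGroup M]
    [Module R M] (Q : Ideal S) :
    Q ∈ associatedPrimes S (N ⊗[R] M) ↔
      ∃ p : PrimeSpectrum R, p.asIdeal ∈ associatedPrimes R M ∧
        ∃ Q' ∈ associatedPrimes (p.asIdeal.Fiber S) (FlatCA.fiberMod p.asIdeal S N),
          Q'.comap (Algebra.TensorProduct.includeRight : S →ₐ[R] p.asIdeal.Fiber S).toRingHom = Q := by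
  rw [Groth.Agent.CAlg1.associatedPrimes_tensor_of_flat]
  simp only [Set.mem_iUnion, exists_prop]
  constructor
  · rintro ⟨p, hp, hQ⟩
    have hpp : p.IsPrime := hp.1
    have := isNoetherianRing_fiber (S := S) p
    have : Q.IsPrime := hQ.1
    rw [← ass_eq_associatedPrimes] at hQ
    obtain ⟨h1, h2⟩ := Groth.Agent.S9669.result (S := S) N p
    have hQp := h2 Q hQ
    rw [h1] at hQ
    obtain ⟨Q', hQ', e⟩ := (CAlg6.ass_fiberMod_iff Q).mp ⟨hQ, hQp⟩
    rw [ass_eq_associatedPrimes] at hQ'
    exact ⟨⟨p, hpp⟩, hp, Q', hQ', e⟩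
  · rintro ⟨⟨p, hpp⟩, hp, Q', hQ', e⟩
    refine ⟨p, hp, ?_⟩
    have := isNoetherianRing_fiber (S := S) p
    rw [← ass_eq_associatedPrimes] at hQ' ⊢
    rw [(Groth.Agent.S9669.result (S := S) N p).1]
    exact ((CAlg6.ass_fiberMod_iff Q).mpr ⟨Q', hQ', e⟩).1

end Groth.Agent.FBase64.AssTensor
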