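import Groth.Agent.FBase64.AssTensor.Scheme
import Groth.Agent.FBase64.AlgFields
import Groth.Agent.FBase64.AssSheaf2
import Groth.Agent.EGA73.Tensor
import Mathlib.AlgebraicGeometry.Morphisms.Preimmersion

/-! Consequences of the formula for associated points of `F ⊗ G`. -/

set_option autoImplicit false
set_option linter.style.haveILetI false
set_option backward.isDefEq.respectTransparency.types false
set_option maxHeartbeats 1000000
universe u

open CategoryTheory CategoryTheory.Limits AlgebraicGeometry TopologicalSpace TensorProduct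

namespace Groth.Agent.FBase64.AssTensor

attribute [local instance] Algebra.TensorProduct.rightAlgebra

open Div89 Groth.Agent.FBase64.AssSheaf

theorem fiberι_over {Y S : Scheme.{u}} (g : Y ⟶ S) (s : S) (a : g.fiber s) : g (g.fiberι s a) = s :=
  (g.range_fiberι s).subset (Set.mem_range_self a)

/-- The condition "associated to the fibre" and "associated to the module". -/
theorem mem_ass_iff_fibre {Y S : Scheme.{u}} (g : Y ⟶ S) [IsLocallyNoetherian Y] [IsLocallyNoetherian S]
    (G : Y.Modules) (hG : Coh.IsQCoh G) (hGfl : FlatMod.IsFlatOver g G) (y : Y) :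
    y ∈ AssSch.Ass G ↔ g y ∈ AssSch.Ass (Coh.structureModule S) ∧
      ∃ a ∈ AssSch.Ass ((Scheme.Modules.pullback (g.fiberι (g y))).obj G), g.fiberι (g y) a = y := by
  haveI : G.IsQuasicoherent := hG
  obtain ⟨W, hW, hsW, -⟩ := exists_isAffineOpen_mem_and_subset (X := S) (x := g y) (U := ⊤) trivial
  obtain ⟨V, hV, hyV, e⟩ := exists_isAffineOpen_mem_and_subset (X := Y) (x := y) (U := g ⁻¹ᵁ W) hsW
  letI := (g.appLE W V e).hom.toAlgebra
  letI : Module Γ(S, W) Γ(G, V) := Module.compHom _ (g.appLE W V e).hom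
  haveI : IsScalarTower Γ(S, W) Γ(Y, V) Γ(G, V) := IsScalarTower.of_algebraMap_smul fun _ _ => rfl
  haveI : Module.Flat Γ(S, W) Γ(G, V) :=
    FlatMor68.FlatSections.flat_sections g e hV hW (QC70.isLocAt_of_isQuasicoherent G hV) fun y _ => hGfl y
  haveI : IsNoetherianRing Γ(Y, V) := IsLocallyNoetherian.component_noetherian ⟨V, hV⟩
  haveI : IsNoetherianRing Γ(S, W) := IsLocallyNoetherian.component_noetherian ⟨W, hW⟩
  rw [mem_ass_iff_associated G hG ⟨V, hV⟩ y hyV]
  refine (TensorProduct.AlgebraTensorModule.rid Γ(S, W) Γ(Y, V) Γ(G, V)).isAssociatedPrime_iff.symm.trans ?_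
  refine (mem_ass_tensor_iff_fiber (R := Γ(S, W)) (S := Γ(Y, V)) Γ(G, V) Γ(S, W) _).trans ?_
  constructor
  · rintro ⟨p, hp, hfib⟩
    obtain ⟨a, ha, hay⟩ := (mem_ass_fiber_iff g G hG hW hV e p _ rfl y hyV).mpr hfib
    have hs : g y = hW.fromSpec p := by rw [← hay]; exact fiberι_over g _ a
    refine ⟨?_, ?_⟩
    · rw [mem_ass_iff_associated _ (isQCoh_structureModule S) ⟨W, hW⟩ (g y) hsW]
      have : primeAt (⟨W, hW⟩ : S.affineOpens) (g y) hsW = p.asIdeal :=
        congrArg PrimeSpectrum.asIdeal (hW.fromSpec.isOpenEmbedding.injective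
          ((hW.fromSpec_primeIdealOf ⟨g y, hsW⟩).trans hs))
      rw [this]
      exact hp
    · rw [hs]
      exact ⟨a, ha, hay⟩
  · rintro ⟨hs, hfib⟩
    rw [mem_ass_iff_associated _ (isQCoh_structureModule S) ⟨W, hW⟩ (g y) hsW] at hs
    exact ⟨hW.primeIdealOf ⟨g y, hsW⟩, hs, (mem_ass_fiber_iff g G hG hW hV e _ _
      (hW.fromSpec_primeIdealOf ⟨g y, hsW⟩) y hyV).mp hfib⟩

/-- `κ₁ ⊗ κ₂` has no embedded primes. -/
theorem associatedPrimes_fields_subset {C K L : Type u} [CommRing C] [Field K] [Field L] [Algebra C K]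
    [Algebra C L] [IsNoetherianRing (K ⊗[C] L)] :
    associatedPrimes (K ⊗[C] L) (K ⊗[C] L) ⊆ minimalPrimes (K ⊗[C] L) := by
  intro P hP
  have h1 : ¬ Subsingleton (K ⊗[C] L) := fun h => hP.1.ne_top (Subsingleton.elim _ _)
  have hk : RingHom.ker (algebraMap C K) = RingHom.ker (algebraMap C L) := by
    by_contra hne
    refine h1 (subsingleton_of_zero_eq_one ?_)
    have key : ∀ c : C, (algebraMap C K c = 0) ≠ (algebraMap C L c = 0) → (0 : K ⊗[C] L) = 1 := by
      intro c hc
      rw [Algebra.TensorProduct.one_def]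
      by_cases hK : algebraMap C K c = 0
      · have hL : algebraMap C L c ≠ 0 := fun h => hc (by simp [hK, h])
        calc (0 : K ⊗[C] L) = (c • (1 : K)) ⊗ₜ[C] (algebraMap C L c)⁻¹ := by
              rw [Algebra.smul_def, hK, zero_mul, TensorProduct.zero_tmul]
          _ = _ := by rw [TensorProduct.smul_tmul, Algebra.smul_def, mul_inv_cancel₀ hL]
      · have hL : algebraMap C L c = 0 := by
          by_contra h
          exact hc (by simp [hK, h])
        calc (0 : K ⊗[C] L) = (algebraMap C K c)⁻¹ ⊗ₜ[C] (c • (1 : L)) := by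
              rw [Algebra.smul_def, hL, zero_mul, TensorProduct.tmul_zero]
          _ = _ := by rw [← TensorProduct.smul_tmul, Algebra.smul_def, mul_inv_cancel₀ hK]
    by_contra h01
    refine hne (Ideal.ext fun c => ?_)
    simp only [RingHom.mem_ker]
    exact Iff.of_eq (Classical.byContradiction fun hc => h01 (key c hc))
  let r := RingHom.ker (algebraMap C K)
  haveI : r.IsPrime := RingHom.ker_isPrime _
  have hu : ∀ {F : Type u} [Field F] [Algebra C F], RingHom.ker (algebraMap C F) = r →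
      r.primeCompl ≤ (IsUnit.submonoid F).comap (algebraMap C F) := by
    intro F _ _ h c hc
    refine isUnit_iff_ne_zero.mpr fun h0 => hc ?_
    rw [← h]; exact h0
  letI algK : Algebra r.ResidueField K := (Ideal.ResidueField.lift r (algebraMap C K) le_rfl (hu rfl)).toAlgebra
  letI algL : Algebra r.ResidueField L :=
    (Ideal.ResidueField.lift r (algebraMap C L) hk.le (hu hk.symm)).toAlgebra
  haveI : IsScalarTower C r.ResidueField K :=
    IsScalarTower.of_algebraMap_eq fun c => (Ideal.ResidueField.lift_algebraMap _ _ _ _ c).symm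
  haveI : IsScalarTower C r.ResidueField L :=
    IsScalarTower.of_algebraMap_eq fun c => (Ideal.ResidueField.lift_algebraMap _ _ _ _ c).symm
  haveI : TensorProduct.CompatibleSMul C r.ResidueField K L := by
    constructor
    intro a k l
    obtain ⟨z, d, hd, rfl⟩ := IsFractionRing.div_surjective (C ⧸ r) a
    obtain ⟨c, rfl⟩ := Ideal.Quotient.mk_surjective z
    obtain ⟨d, rfl⟩ := Ideal.Quotient.mk_surjective d
    set u := algebraMap C r.ResidueField d
    have hu' : u ≠ 0 := fun h => nonZeroDivisors.ne_zero hd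
      (Ideal.Quotient.eq_zero_iff_mem.mpr (Ideal.algebraMap_residueField_eq_zero.mp h))
    show ((algebraMap C r.ResidueField c / u) • k) ⊗ₜ[C] l = k ⊗ₜ[C] ((algebraMap C r.ResidueField c / u) • l)
    set a := algebraMap C r.ResidueField c / u
    have e : ∀ {F : Type u} [AddCommGroup F] [Module C F] [Module r.ResidueField F]
        [IsScalarTower C r.ResidueField F] (m : F), d • (a • m) = c • m := by
      intro F _ _ _ _ m
      rw [← algebraMap_smul r.ResidueField d (a • m), smul_smul, ← algebraMap_smul r.ResidueField c m]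
      congr 1
      exact mul_div_cancel₀ _ hu'
    calc (a • k) ⊗ₜ[C] l = (a • k) ⊗ₜ[C] (d • (u⁻¹ • l)) := by
          rw [← algebraMap_smul r.ResidueField d (u⁻¹ • l), smul_smul, mul_inv_cancel₀ hu', one_smul]
      _ = (c • k) ⊗ₜ[C] (u⁻¹ • l) := by rw [← TensorProduct.smul_tmul, e]
      _ = k ⊗ₜ[C] (c • (u⁻¹ • l)) := TensorProduct.smul_tmul _ _ _
      _ = k ⊗ₜ[C] (a • l) := by
          rw [← algebraMap_smul r.ResidueField c (u⁻¹ • l), smul_smul, ← div_eq_mul_inv]
  let e : K ⊗[r.ResidueField] L ≃+* K ⊗[C] L :=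
    (Algebra.TensorProduct.equivOfCompatibleSMul C r.ResidueField r.ResidueField K L).toRingEquiv
  haveI : IsNoetherianRing (K ⊗[r.ResidueField] L) := isNoetherianRing_of_ringEquiv _ e.symm
  have h2 : P.comap e.toRingHom ∈ associatedPrimes (K ⊗[r.ResidueField] L) (K ⊗[r.ResidueField] L) :=
    (ass_semilinear e e.toAddEquiv (fun a m => map_mul e a m) P).mp hP
  have h3 := associatedPrimes_subset_minimalPrimes r.ResidueField K L h2
  refine ⟨⟨hP.1, bot_le⟩, fun J hJ hle => ?_⟩
  have h4 := h3.2 ⟨hJ.1.comap e.toRingHom, bot_le⟩ (Ideal.comap_mono hle)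
  intro t ht
  have hmem : e.symm t ∈ P.comap e.toRingHom := by
    rw [Ideal.mem_comap]
    exact (e.apply_symm_apply t).symm ▸ ht
  have h5 := h4 hmem
  rw [Ideal.mem_comap] at h5
  exact (e.apply_symm_apply t) ▸ h5

variable {X Y S P : Scheme.{u}} {f : X ⟶ S} {g : Y ⟶ S} {pr1 : P ⟶ X} {pr2 : P ⟶ Y}

/-- The product of two residue fields is the spectrum of a tensor product of fields. -/
theorem exists_residue_spec (h : IsPullback pr1 pr2 f g) [IsLocallyNoetherian P] (x : X) (y : Y)
    (t : ↥(pullback (X.fromSpecResidueField x ≫ f) (Y.fromSpecResidueField y ≫ g))) :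
    ∃ (C K L : Type u) (_ : CommRing C) (_ : Field K) (_ : Field L) (_ : Algebra C K) (_ : Algebra C L)
      (_ : IsNoetherianRing (K ⊗[C] L))
      (m : Spec (CommRingCat.of (K ⊗[C] L)) ⟶
        pullback (X.fromSpecResidueField x ≫ f) (Y.fromSpecResidueField y ≫ g)), IsIso m := by
  obtain ⟨z, hz1, hz2⟩ : ∃ z, pr1 z = x ∧ pr2 z = y :=
    ⟨resMap h x y t, resMap_fst h x y t, resMap_snd h x y t⟩
  have hfg : g y = f x := by rw [← hz1, ← hz2, ← Scheme.Hom.comp_apply, ← Scheme.Hom.comp_apply, h.w]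
  obtain ⟨W, hW, hsW, -⟩ := exists_isAffineOpen_mem_and_subset (X := S) (x := f x) (U := ⊤) trivial
  obtain ⟨U, hU, hxU, eU⟩ := exists_isAffineOpen_mem_and_subset (X := X) (x := x) (U := f ⁻¹ᵁ W) hsW
  obtain ⟨V, hV, hyV, eV⟩ := exists_isAffineOpen_mem_and_subset (X := Y) (x := y) (U := g ⁻¹ᵁ W)
    (show g y ∈ W from hfg ▸ hsW)
  obtain ⟨W0, hW0, hzW0, e1, e2, t1, t2, hpush⟩ :=
    exists_affine_pushout h z hW hU hV eU eV (hz1 ▸ hxU) (hz2 ▸ hyV)
  letI := (f.appLE W U eU).hom.toAlgebra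
  letI := (g.appLE W V eV).hom.toAlgebra
  letI := (pr1.appLE U W0 e1).hom.toAlgebra
  letI := (pr2.appLE V W0 e2).hom.toAlgebra
  letI : Algebra Γ(S, W) Γ(P, W0) := ((pr1.appLE U W0 e1).hom.comp (f.appLE W U eU).hom).toAlgebra
  haveI := t1
  haveI := t2
  haveI := hpush
  haveI : IsNoetherianRing Γ(P, W0) := IsLocallyNoetherian.component_noetherian ⟨W0, hW0⟩
  let p0 : PrimeSpectrum Γ(X, U) := hU.primeIdealOf ⟨x, hxU⟩
  let q0 : PrimeSpectrum Γ(Y, V) := hV.primeIdealOf ⟨y, hyV⟩
  obtain ⟨σx, hσx⟩ := exists_residueIso hU p0 x (hU.fromSpec_primeIdealOf ⟨x, hxU⟩)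
  obtain ⟨σy, hσy⟩ := exists_residueIso hV q0 y (hV.fromSpec_primeIdealOf ⟨y, hyV⟩)
  have wx : Spec.map (CommRingCat.ofHom (algebraMap Γ(S, W) p0.asIdeal.ResidueField)) ≫ hW.fromSpec =
      σx.hom ≫ X.fromSpecResidueField x ≫ f := by
    rw [reassoc_of% hσx, ← IsAffineOpen.SpecMap_appLE_fromSpec f hW hU eU, ← Spec.map_comp_assoc,
      IsScalarTower.algebraMap_eq Γ(S, W) Γ(X, U) p0.asIdeal.ResidueField, CommRingCat.ofHom_comp]
    rfl
  have wy : Spec.map (CommRingCat.ofHom (algebraMap Γ(S, W) q0.asIdeal.ResidueField)) ≫ hW.fromSpec =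
      σy.hom ≫ Y.fromSpecResidueField y ≫ g := by
    rw [reassoc_of% hσy, ← IsAffineOpen.SpecMap_appLE_fromSpec g hW hV eV, ← Spec.map_comp_assoc,
      IsScalarTower.algebraMap_eq Γ(S, W) Γ(Y, V) q0.asIdeal.ResidueField, CommRingCat.ofHom_comp]
    rfl
  let m : Spec (CommRingCat.of (p0.asIdeal.ResidueField ⊗[Γ(S, W)] q0.asIdeal.ResidueField)) ⟶
      pullback (X.fromSpecResidueField x ≫ f) (Y.fromSpecResidueField y ≫ g) :=
    (pullbackSpecIso Γ(S, W) p0.asIdeal.ResidueField q0.asIdeal.ResidueField).inv ≫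
      pullback.map _ _ _ _ σx.hom σy.hom hW.fromSpec wx wy
  haveI : IsOpenImmersion m := by dsimp only [m]; infer_instance
  refine ⟨Γ(S, W), p0.asIdeal.ResidueField, q0.asIdeal.ResidueField, inferInstance, inferInstance,
    inferInstance, inferInstance, inferInstance, isNoetherianRing_residue (T := Γ(P, W0)) _ _, m,
    isIso_of_isOpenImmersion_of_opensRange_eq_top m (TopologicalSpace.Opens.ext ?_)⟩
  show Set.range m = Set.univ
  dsimp only [m]
  rw [Scheme.Hom.comp_base, TopCat.coe_comp, Set.range_comp,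
    (pullbackSpecIso Γ(S, W) p0.asIdeal.ResidueField q0.asIdeal.ResidueField).inv.surjective.range_eq,
    Set.image_univ, Scheme.Pullback.range_map, Set.range_eq_univ.mpr σx.hom.surjective,
    Set.range_eq_univ.mpr σy.hom.surjective, Set.preimage_univ, Set.preimage_univ, Set.inter_univ]

theorem noEmbedded_residueProduct (h : IsPullback pr1 pr2 f g) [IsLocallyNoetherian P] (x : X) (y : Y) :
    AssSch.NoEmbedded (Coh.structureModule
      (pullback (X.fromSpecResidueField x ≫ f) (Y.fromSpecResidueField y ≫ g))) := by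
  intro t ht t' ht' hsp
  obtain ⟨C, K, L, _, _, _, _, _, _, m, _⟩ := exists_residue_spec h x y t
  obtain ⟨Q, rfl⟩ := m.surjective t
  obtain ⟨Q', rfl⟩ := m.surjective t'
  rw [← mem_ass_structure_iso m, mem_ass_structure_spec] at ht ht'
  replace hsp : Q' ⤳ Q := m.homeomorph.isInducing.specializes_iff.mp hsp
  have hle : (show PrimeSpectrum (K ⊗[C] L) from Q').asIdeal ≤ (show PrimeSpectrum (K ⊗[C] L) from Q).asIdeal :=
    (PrimeSpectrum.le_iff_specializes _ _).mpr hsp
  exact congrArg m (PrimeSpectrum.ext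
    (le_antisymm ((associatedPrimes_fields_subset ht).2 ⟨ht'.1, bot_le⟩ hle) hle))

theorem resMap_eq_map (f : X ⟶ S) (g : Y ⟶ S) (x : X) (y : Y) :
    resMap (IsPullback.of_hasPullback f g) x y =
      pullback.map (X.fromSpecResidueField x ≫ f) (Y.fromSpecResidueField y ≫ g) f g (X.fromSpecResidueField x)
        (Y.fromSpecResidueField y) (𝟙 S) (Category.comp_id _) (Category.comp_id _) := by
  apply pullback.hom_ext
  · exact (IsPullback.lift_fst _ _ _ _).trans (pullback.lift_fst _ _ _).symm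
  · exact (IsPullback.lift_snd _ _ _ _).trans (pullback.lift_snd _ _ _).symm

theorem isPreimmersion_resMap (f : X ⟶ S) (g : Y ⟶ S) (x : X) (y : Y) :
    IsPreimmersion (resMap (IsPullback.of_hasPullback f g) x y) := by
  rw [resMap_eq_map]
  exact MorphismProperty.pullbackMap (P := @IsPreimmersion) inferInstance inferInstance rfl rfl

theorem noEmbedded_tensor {X Y S : Scheme.{u}} (f : X ⟶ S) (g : Y ⟶ S)
    [IsLocallyNoetherian X] [IsLocallyNoetherian Y] [IsLocallyNoetherian (pullback f g)]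
    (F : X.Modules) (hF : Coh.IsQCoh F) (G : Y.Modules) (hG : Coh.IsQCoh G) (hGfl : FlatMod.IsFlatOver g G)
    (hFne : AssSch.NoEmbedded F)
    (hY : ∀ x ∈ AssSch.Ass F, ∀ a ∈ AssSch.Ass ((Scheme.Modules.pullback (g.fiberι (f x))).obj G),
      ∀ a' ∈ AssSch.Ass ((Scheme.Modules.pullback (g.fiberι (f x))).obj G),
        g.fiberι (f x) a' ⤳ g.fiberι (f x) a → g.fiberι (f x) a = g.fiberι (f x) a') :
    AssSch.NoEmbedded (CohB1.tensorMod ((Scheme.Modules.pullback (pullback.fst f g)).obj F)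
      ((Scheme.Modules.pullback (pullback.snd f g)).obj G)) := by
  intro z hz z' hz' hsp
  let h := IsPullback.of_hasPullback f g
  rw [mem_ass_tensor h F hF G hG hGfl] at hz hz'
  obtain ⟨hx, ⟨a, ha, hay⟩, t, ht, htz⟩ := hz
  obtain ⟨hx', ⟨a', ha', hay'⟩, t', ht', htz'⟩ := hz'
  have ex := hFne _ hx _ hx' (hsp.map (pullback.fst f g).continuous)
  have hyy : pullback.snd f g z' ⤳ pullback.snd f g z := hsp.map (pullback.snd f g).continuous
  generalize hxz : pullback.fst f g z' = x' at *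
  subst ex
  have ey : pullback.snd f g z = pullback.snd f g z' := by
    rw [← hay, ← hay'] at hyy ⊢
    exact hY _ hx a ha a' ha' hyy
  generalize hyz : pullback.snd f g z' = y' at *
  subst ey
  haveI := isPreimmersion_resMap f g (pullback.fst f g z) (pullback.snd f g z)
  rw [← htz, ← htz', (resMap h _ _).isEmbedding.isInducing.specializes_iff] at hsp
  rw [← htz, ← htz', noEmbedded_residueProduct h _ _ t ht t' ht' hsp]

theorem ass_tensor_eq_iUnion (f : X ⟶ S) (g : Y ⟶ S) [IsLocallyNoetherian X] [IsLocallyNoetherian Y]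
    [IsLocallyNoetherian (pullback f g)] (F : X.Modules) (hF : Coh.IsQCoh F) (G : Y.Modules)
    (hG : Coh.IsQCoh G) (hGfl : FlatMod.IsFlatOver g G) (z : ↥(pullback f g)) :
    z ∈ AssSch.Ass (CohB1.tensorMod ((Scheme.Modules.pullback (pullback.fst f g)).obj F)
        ((Scheme.Modules.pullback (pullback.snd f g)).obj G)) ↔
      ∃ x ∈ AssSch.Ass F, ∃ y : Y, (∃ a ∈ AssSch.Ass ((Scheme.Modules.pullback (g.fiberι (f x))).obj G),
          g.fiberι (f x) a = y) ∧
        ∃ t ∈ AssSch.Ass (Coh.structureModule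
            (pullback (X.fromSpecResidueField x ≫ f) (Y.fromSpecResidueField y ≫ g))),
          pullback.map (X.fromSpecResidueField x ≫ f) (Y.fromSpecResidueField y ≫ g) f g
            (X.fromSpecResidueField x) (Y.fromSpecResidueField y) (𝟙 S) (Category.comp_id _)
            (Category.comp_id _) t = z := by
  rw [mem_ass_tensor (IsPullback.of_hasPullback f g) F hF G hG hGfl]
  constructor
  · rintro ⟨hx, hy, t, ht, htz⟩
    exact ⟨_, hx, _, hy, t, ht, by rw [← resMap_eq_map]; exact htz⟩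
  · rintro ⟨x, hx, y, hy, t, ht, htz⟩
    rw [← resMap_eq_map] at htz
    obtain rfl : pullback.fst f g z = x := htz ▸ resMap_fst _ x y t
    obtain rfl : pullback.snd f g z = y := htz ▸ resMap_snd _ _ y t
    exact ⟨hx, hy, t, ht, htz⟩

end Groth.Agent.FBase64.AssTensor
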