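import Groth.Agent.FBase64.AssTensor.Algebra
import Groth.Agent.FBase64.RestrictStalk
import Groth.Agent.FBase64.AssSheaf3
import Groth.Agent.QCTens72.Basic
import Groth.Agent.FlatMor68.PullbackStalk
import Mathlib.AlgebraicGeometry.Fiber

/-! Affine charts for associated points of tensor products. -/

set_option autoImplicit false
set_option linter.style.haveILetI false
set_option backward.isDefEq.respectTransparency.types false
universe u

open CategoryTheory CategoryTheory.Limits AlgebraicGeometry TopologicalSpace TensorProduct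

namespace Groth.Agent.FBase64.AssTensor

attribute [local instance] Algebra.TensorProduct.rightAlgebra

open Div89 Groth.Agent.FBase64.AssSheaf

/-- The residue field of an affine chart at a point. -/
theorem exists_residueIso {X : Scheme.{u}} {U : X.Opens} (hU : IsAffineOpen U) (P : Spec Γ(X, U)) (w : X)
    (hw : hU.fromSpec P = w) :
    ∃ σ : Spec (CommRingCat.of (show PrimeSpectrum Γ(X, U) from P).asIdeal.ResidueField) ≅ Spec (X.residueField w),
      σ.hom ≫ X.fromSpecResidueField w =
        Spec.map (CommRingCat.ofHom (algebraMap Γ(X, U) (show PrimeSpectrum Γ(X, U) from P).asIdeal.ResidueField)) ≫ hU.fromSpec := by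
  subst hw
  have : IsIso (hU.fromSpec.residueFieldMap P) := inferInstance
  let r := Scheme.Spec.residueFieldIso Γ(X, U) P
  refine ⟨asIso (Spec.map (hU.fromSpec.residueFieldMap P ≫ r.hom)), ?_⟩
  rw [asIso_hom, Spec.map_comp, Category.assoc, Scheme.Hom.SpecMap_residueFieldMap_fromSpecResidueField,
    ← Scheme.Spec.map_residueFieldIso_inv_eq_fromSpecResidueField, ← Category.assoc, ← Category.assoc]
  congr 1
  have hr : Spec.map r.hom ≫ Spec.map r.inv = 𝟙 _ := by rw [← Spec.map_comp, r.inv_hom_id, Spec.map_id]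
  exact (congrArg (· ≫ _) hr).trans (Category.id_comp _)

/-- Recovering the ring map from a morphism into an affine open. -/
theorem appLE_of_factor {X : Scheme.{u}} {U : X.Opens} (hU : IsAffineOpen U) {R : CommRingCat.{u}}
    (φ : Γ(X, U) ⟶ R) (h : Spec R ⟶ X) (hh : h = Spec.map φ ≫ hU.fromSpec) (e : ⊤ ≤ h ⁻¹ᵁ U) :
    h.appLE U ⊤ e ≫ (Scheme.ΓSpecIso R).hom = φ := by
  apply Spec.map_injective
  rw [← cancel_mono hU.fromSpec, Spec.map_comp, Category.assoc,
    IsAffineOpen.SpecMap_appLE_fromSpec h hU (isAffineOpen_top _) e, IsAffineOpen.fromSpec_top,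
    Scheme.isoSpec_Spec_inv, ← Category.assoc, ← Spec.map_comp, Iso.inv_hom_id, Spec.map_id, Category.id_comp, hh]

theorem top_le_preimage {X : Scheme.{u}} {U : X.Opens} (hU : IsAffineOpen U) {R : CommRingCat.{u}}
    (φ : Γ(X, U) ⟶ R) (h : Spec R ⟶ X) (hh : h = Spec.map φ ≫ hU.fromSpec) :
    ⊤ ≤ h ⁻¹ᵁ U := by
  intro z _
  show h z ∈ U
  rw [hh, Scheme.Hom.comp_apply]
  exact (Set.ext_iff.mp hU.range_fromSpec _).mp ⟨_, rfl⟩

theorem primeAt_top_spec {R : CommRingCat.{u}} (t : Spec R) :
    primeAt (⟨⊤, isAffineOpen_top (Spec R)⟩ : (Spec R).affineOpens) t trivial =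
      (show PrimeSpectrum R from t).asIdeal.comap (Scheme.ΓSpecIso R).hom.hom := by
  ext a
  rw [mem_primeAt_iff, Ideal.mem_comap, basicOpen_eq_of_affine']
  exact not_not

/-- Associated primes along a semilinear isomorphism. -/
theorem ass_semilinear {R R' M M' : Type u} [CommRing R] [CommRing R'] [AddCommGroup M] [Module R M]
    [AddCommGroup M'] [Module R' M'] (ρ : R ≃+* R') (e : M ≃+ M') (he : ∀ a m, e (a • m) = ρ a • e m)
    (P : Ideal R') : P ∈ associatedPrimes R' M' ↔ P.comap ρ.toRingHom ∈ associatedPrimes R M := by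
  have key : ∀ (m : M), ((⊥ : Submodule R M).colon {m}).radical =
      ((⊥ : Submodule R' M').colon {e m}).radical.comap ρ.toRingHom := by
    intro m
    ext a
    simp only [Ideal.mem_comap, Ideal.mem_radical_iff, Submodule.mem_colon_singleton, Submodule.mem_bot]
    refine exists_congr fun n => ?_
    rw [← map_eq_zero_iff e e.injective, he, map_pow]
    rfl
  constructor
  · rintro ⟨hp, m', hm⟩
    obtain ⟨m, rfl⟩ := e.surjective m'
    exact ⟨hp.comap _, m, by rw [key, hm]⟩
  · rintro ⟨hp, m, hm⟩
    have e1 := Ideal.comap_injective_of_surjective ρ.toRingHom ρ.surjective (hm.trans (key m))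
    refine ⟨?_, e m, e1⟩
    have h2 := Ideal.map_isPrime_of_equiv (I := P.comap ρ.toRingHom) ρ
    rwa [show (P.comap ρ.toRingHom).map ρ = P from Ideal.map_comap_of_surjective ρ.toRingHom ρ.surjective P] at h2

/-- Associated primes of a base change along an isomorphism of algebras. -/
theorem ass_baseChange {B R R' N : Type u} [CommRing B] [CommRing R] [CommRing R'] [Algebra B R] [Algebra B R']
    [AddCommGroup N] [Module B N] (ρ : R ≃ₐ[B] R') (P : Ideal R') :
    P ∈ associatedPrimes R' (R' ⊗[B] N) ↔ P.comap ρ.toRingEquiv.toRingHom ∈ associatedPrimes R (R ⊗[B] N) := by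
  refine ass_semilinear ρ.toRingEquiv (TensorProduct.congr ρ.toLinearEquiv (LinearEquiv.refl B N)).toAddEquiv
    (fun a m => ?_) P
  induction m with
  | zero => simp
  | tmul x n =>
    change TensorProduct.congr ρ.toLinearEquiv (LinearEquiv.refl B N) (a • (x ⊗ₜ[B] n)) =
      ρ a • TensorProduct.congr ρ.toLinearEquiv (LinearEquiv.refl B N) (x ⊗ₜ[B] n)
    rw [TensorProduct.smul_tmul', TensorProduct.congr_tmul, TensorProduct.congr_tmul, TensorProduct.smul_tmul']
    simp [smul_eq_mul]
  | add x y hx hy => simp only [smul_add, map_add, hx, hy]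

theorem ass_iso {X : Scheme.{u}} {F G : X.Modules} (e : F ≅ G) : AssSch.Ass F = AssSch.Ass G :=
  Set.Subset.antisymm
    (fun x hx => IsAssociatedPrime.map_of_injective (f := QC70.stalkLinear e.hom x) hx
      (QC70.injective_stalkMapM_of_mono e.hom x))
    (fun x hx => IsAssociatedPrime.map_of_injective (f := QC70.stalkLinear e.inv x) hx
      (QC70.injective_stalkMapM_of_mono e.inv x))

/-- Associated points of a module pulled back to an affine scheme. -/
theorem mem_ass_pullback_spec {Y : Scheme.{u}} (G : Y.Modules) (hG : Coh.IsQCoh G) {V : Y.Opens}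
    (hV : IsAffineOpen V) {R : Type u} [CommRing R] [IsNoetherianRing R] [Algebra Γ(Y, V) R]
    (h : Spec (CommRingCat.of R) ⟶ Y)
    (hh : h = Spec.map (CommRingCat.ofHom (algebraMap Γ(Y, V) R)) ≫ hV.fromSpec) (P : Spec (CommRingCat.of R)) :
    P ∈ AssSch.Ass ((Scheme.Modules.pullback h).obj G) ↔
      (show PrimeSpectrum R from P).asIdeal ∈ associatedPrimes R (R ⊗[Γ(Y, V)] Γ(G, V)) := by
  haveI : G.IsQuasicoherent := hG
  haveI : IsLocallyNoetherian (Spec (CommRingCat.of R)) := inferInstance
  have e := top_le_preimage hV _ h hh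
  let Z := Spec (CommRingCat.of R)
  rw [mem_ass_iff_associated _ (QCPull72.isQuasicoherent_pullback h G) ⟨⊤, isAffineOpen_top Z⟩ P trivial,
    primeAt_top_spec]
  letI : Algebra Γ(Y, V) Γ(Z, ⊤) := (h.appLE V ⊤ e).hom.toAlgebra
  refine ((QCPull72.sectionsPullbackEquiv h G hV (isAffineOpen_top Z) e).isAssociatedPrime_iff).trans ?_
  let ρ : Γ(Z, ⊤) ≃ₐ[Γ(Y, V)] R := AlgEquiv.ofRingEquiv
    (f := (Scheme.ΓSpecIso (CommRingCat.of R)).commRingCatIsoToRingEquiv) fun b =>
      congr($(appLE_of_factor hV _ h hh e).hom b)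
  exact (ass_baseChange ρ (show PrimeSpectrum R from P).asIdeal).symm

/-- Associated points of an affine scheme. -/
theorem mem_ass_structure_spec {R : Type u} [CommRing R] [IsNoetherianRing R] (P : Spec (CommRingCat.of R)) :
    P ∈ AssSch.Ass (Coh.structureModule (Spec (CommRingCat.of R))) ↔
      (show PrimeSpectrum R from P).asIdeal ∈ associatedPrimes R R := by
  let Z := Spec (CommRingCat.of R)
  rw [mem_ass_iff_associated _ (isQCoh_structureModule Z) ⟨⊤, isAffineOpen_top Z⟩ P trivial, primeAt_top_spec]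
  let ρ : Γ(Z, ⊤) ≃+* R := (Scheme.ΓSpecIso (CommRingCat.of R)).commRingCatIsoToRingEquiv
  exact (ass_semilinear (M := Γ(Z, ⊤)) ρ ρ.toAddEquiv (fun a m => map_mul ρ a m)
    (show PrimeSpectrum R from P).asIdeal).symm

/-- Isomorphisms preserve associated points. -/
theorem mem_ass_structure_iso {Z Z' : Scheme.{u}} (e : Z ⟶ Z') [IsIso e] (t : Z) :
    t ∈ AssSch.Ass (Coh.structureModule Z) ↔ e t ∈ AssSch.Ass (Coh.structureModule Z') := by
  rw [mem_ass_structure_iff, mem_ass_structure_iff]
  exact (isAssociatedPrime_maximal_of_semilinear (asIso (e.stalkMap t)).commRingCatIsoToRingEquiv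
    (asIso (e.stalkMap t)).commRingCatIsoToRingEquiv.toAddEquiv
    (fun a m => map_mul (asIso (e.stalkMap t)).commRingCatIsoToRingEquiv a m)).symm

section Residue

variable {C A B T : Type u} [CommRing C] [CommRing A] [CommRing B] [CommRing T]
  [Algebra C A] [Algebra C B] [Algebra C T] [Algebra A T] [Algebra B T]
  [IsScalarTower C A T] [IsScalarTower C B T] [Algebra.IsPushout C A B T]
  (p : Ideal A) [p.IsPrime] (q : Ideal B) [q.IsPrime]

theorem exists_unit_mul_eq (x : p.ResidueField ⊗[C] q.ResidueField) :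
    ∃ d t : T, IsUnit (toResidueTensor (C := C) (T := T) p q d) ∧
      toResidueTensor (C := C) (T := T) p q d * x = toResidueTensor (C := C) (T := T) p q t := by
  induction x with
  | zero => exact ⟨1, 0, by simp, by simp⟩
  | tmul u v =>
    obtain ⟨a, a', ha', rfl⟩ := IsFractionRing.div_surjective (A := A ⧸ p) u
    obtain ⟨b, b', hb', rfl⟩ := IsFractionRing.div_surjective (A := B ⧸ q) v
    obtain ⟨a, rfl⟩ := Ideal.Quotient.mk_surjective a
    obtain ⟨a', rfl⟩ := Ideal.Quotient.mk_surjective a'
    obtain ⟨b, rfl⟩ := Ideal.Quotient.mk_surjective b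
    obtain ⟨b', rfl⟩ := Ideal.Quotient.mk_surjective b'
    simp only [Ideal.algebraMap_quotient_residueField_mk]
    have ha : algebraMap A p.ResidueField a' ≠ 0 := fun h => nonZeroDivisors.ne_zero ha'
      (Ideal.Quotient.eq_zero_iff_mem.2 (Ideal.algebraMap_residueField_eq_zero.1 h))
    have hb : algebraMap B q.ResidueField b' ≠ 0 := fun h => nonZeroDivisors.ne_zero hb'
      (Ideal.Quotient.eq_zero_iff_mem.2 (Ideal.algebraMap_residueField_eq_zero.1 h))
    refine ⟨algebraMap A T a' * algebraMap B T b', algebraMap A T a * algebraMap B T b, ?_, ?_⟩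
    · rw [map_mul, toResidueTensor_left, toResidueTensor_right]
      exact ((isUnit_iff_ne_zero.2 ha).map (Algebra.TensorProduct.includeLeftRingHom :
          p.ResidueField →+* p.ResidueField ⊗[C] q.ResidueField)).mul
        ((isUnit_iff_ne_zero.2 hb).map (Algebra.TensorProduct.includeRight :
          q.ResidueField →ₐ[C] p.ResidueField ⊗[C] q.ResidueField))
    · rw [map_mul, map_mul, toResidueTensor_left, toResidueTensor_right, toResidueTensor_left,
        toResidueTensor_right]
      simp only [Algebra.TensorProduct.tmul_mul_tmul, one_mul, mul_one]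
      rw [mul_div_cancel₀ _ ha, mul_div_cancel₀ _ hb]
  | add x y hx hy =>
    obtain ⟨d, t, hd, ht⟩ := hx
    obtain ⟨d', t', hd', ht'⟩ := hy
    refine ⟨d * d', d' * t + d * t', by rw [map_mul]; exact hd.mul hd', ?_⟩
    rw [map_add, map_mul, map_mul, map_mul, ← ht, ← ht']
    ring

theorem map_comap_residue (I : Ideal (p.ResidueField ⊗[C] q.ResidueField)) :
    (I.comap (toResidueTensor (C := C) (T := T) p q)).map (toResidueTensor (C := C) (T := T) p q) = I := by
  refine le_antisymm Ideal.map_comap_le fun x hx => ?_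
  obtain ⟨d, t, hd, ht⟩ := exists_unit_mul_eq (T := T) p q x
  refine (Ideal.unit_mul_mem_iff_mem _ hd).1 ?_
  rw [ht]
  refine Ideal.mem_map_of_mem _ ?_
  rw [Ideal.mem_comap, ← ht]
  exact I.mul_mem_left _ hx

include T in
theorem isNoetherianRing_residue [IsNoetherianRing T] :
    IsNoetherianRing (p.ResidueField ⊗[C] q.ResidueField) :=
  (isNoetherianRing_iff_ideal_fg _).mpr fun I => by
    rw [← map_comap_residue (T := T) p q I]
    exact Ideal.FG.map ((isNoetherianRing_iff_ideal_fg T).mp ‹_› _) _

theorem comap_left_of_isPrime (Q : Ideal (p.ResidueField ⊗[C] q.ResidueField)) [Q.IsPrime] :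
    (Q.comap (toResidueTensor (C := C) (T := T) p q)).comap (algebraMap A T) = p := by
  ext a
  rw [Ideal.mem_comap, Ideal.mem_comap, toResidueTensor_left]
  constructor
  · intro h
    by_contra ha
    exact ‹Q.IsPrime›.ne_top (Ideal.eq_top_of_isUnit_mem _ h
      ((isUnit_iff_ne_zero.2 fun e => ha (Ideal.algebraMap_residueField_eq_zero.1 e)).map
        (Algebra.TensorProduct.includeLeftRingHom : p.ResidueField →+* p.ResidueField ⊗[C] q.ResidueField)))
  · intro h
    rw [Ideal.algebraMap_residueField_eq_zero.2 h, TensorProduct.zero_tmul]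
    exact Q.zero_mem

theorem comap_right_of_isPrime (Q : Ideal (p.ResidueField ⊗[C] q.ResidueField)) [Q.IsPrime] :
    (Q.comap (toResidueTensor (C := C) (T := T) p q)).comap (algebraMap B T) = q := by
  ext b
  rw [Ideal.mem_comap, Ideal.mem_comap, toResidueTensor_right]
  constructor
  · intro h
    by_contra hb
    exact ‹Q.IsPrime›.ne_top (Ideal.eq_top_of_isUnit_mem _ h
      ((isUnit_iff_ne_zero.2 fun e => hb (Ideal.algebraMap_residueField_eq_zero.1 e)).map
        (Algebra.TensorProduct.includeRight : q.ResidueField →ₐ[C] p.ResidueField ⊗[C] q.ResidueField)))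
  · intro h
    rw [Ideal.algebraMap_residueField_eq_zero.2 h, TensorProduct.tmul_zero]
    exact Q.zero_mem

end Residue

end Groth.Agent.FBase64.AssTensor
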