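import Groth.Agent.FBase64.AssTensor.Over
import Groth.Agent.QCPull72.Support
import Groth.Agent.FDesc60.QF

/-! Associated points of `f^*E ⊗ F` for `F` flat. -/

set_option autoImplicit false
set_option linter.style.haveILetI false
set_option backward.isDefEq.respectTransparency.types false
set_option maxHeartbeats 1000000
universe u

open CategoryTheory CategoryTheory.Limits AlgebraicGeometry TopologicalSpace TensorProduct

namespace Groth.Agent.FBase64.AssTensor

open Div89 Groth.Agent.FBase64.AssSheaf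

variable {X Y : Scheme.{u}} (f : X ⟶ Y)

theorem mem_ass_pullTensor [IsLocallyNoetherian X] [IsLocallyNoetherian Y] (E : Y.Modules) (hE : Coh.IsQCoh E)
    (F : X.Modules) (hF : Coh.IsQCoh F) (hflat : FlatMod.IsFlatOver f F) (z : X) :
    z ∈ AssSch.Ass (CohB1.tensorMod ((Scheme.Modules.pullback f).obj E) F) ↔
      f z ∈ AssSch.Ass E ∧
        ∃ a ∈ AssSch.Ass ((Scheme.Modules.pullback (f.fiberι (f z))).obj F), f.fiberι (f z) a = z := by
  have h : IsPullback f (𝟙 X) (𝟙 Y) f := IsPullback.of_vert_isIso ⟨by simp⟩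
  refine (Set.ext_iff.mp (ass_iso (EGA73.tensIso (Iso.refl ((Scheme.Modules.pullback f).obj E))
    ((Scheme.Modules.pullbackId X).app F))) z).symm.trans ?_
  rw [mem_ass_tensor h E hE F hF hflat z]
  refine ⟨fun ⟨h1, h2, _⟩ => ⟨h1, h2⟩, fun ⟨h1, h2⟩ => ⟨h1, h2, ?_⟩⟩
  obtain ⟨t0, -⟩ := Scheme.Pullback.exists_preimage_pullback (f := Y.fromSpecResidueField (f z) ≫ 𝟙 Y)
    (g := X.fromSpecResidueField (𝟙 X z : X) ≫ f) (IsLocalRing.closedPoint _) (IsLocalRing.closedPoint _)
    (by rw [Scheme.Hom.comp_apply, Scheme.Hom.comp_apply, Scheme.fromSpecResidueField_apply,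
      Scheme.fromSpecResidueField_apply]; rfl)
  obtain ⟨t, ht, -⟩ := exists_ass_specializes_structure t0
  exact ⟨t, ht, resMap_snd h _ _ t⟩

/-- Generisations lift inside the support of a flat coherent module. -/
theorem exists_support_specializes (F : X.Modules) (hF : Coh.IsCoh F) (hflat : FlatMod.IsFlatOver f F) {x : X}
    (hx : x ∈ CohB1.support F) {y' : Y} (hy' : y' ⤳ f x) :
    ∃ w ∈ CohB1.support F, w ⤳ x ∧ f w = y' := by
  haveI := hF.1
  haveI := hF.2
  obtain ⟨q, hq⟩ : y' ∈ Set.range (Y.fromSpecStalk (f x)) :=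
    (Set.ext_iff.mp Scheme.range_fromSpecStalk _).mpr hy'
  letI := FlatMod.moduleStalkOver f F x
  let C := Y.presheaf.stalk (f x)
  let A := X.presheaf.stalk x
  let N := F.presheaf.stalk x
  letI : Algebra C A := (f.stalkMap x).hom.toAlgebra
  haveI : IsLocalHom (algebraMap C A) := inferInstanceAs (IsLocalHom (f.stalkMap x).hom)
  haveI : IsScalarTower C A N :=
    ⟨fun a b n ↦ by rw [Algebra.smul_def]; exact mul_smul ((f.stalkMap x).hom a) b n⟩
  haveI : Module.Flat C N := hflat x
  haveI : Nontrivial N := not_subsingleton_iff_nontrivial.mp hx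
  haveI : Module.Finite A N := FDesc60.finite_stalk_of_isCoh F hF x
  let J := Module.annihilator A N
  letI : Module (A ⧸ J) N := Module.IsTorsionBySet.module fun n r => Module.mem_annihilator.mp r.2 n
  haveI : IsScalarTower A (A ⧸ J) N := IsScalarTower.of_algebraMap_smul fun _ _ => rfl
  haveI : IsScalarTower C (A ⧸ J) N := IsScalarTower.of_algebraMap_smul fun c n => by
    rw [IsScalarTower.algebraMap_apply C A (A ⧸ J), algebraMap_smul, algebraMap_smul]
  haveI : Module.Finite (A ⧸ J) N := Module.Finite.of_restrictScalars_finite A _ _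
  have hJ : J ≠ ⊤ := fun h => not_subsingleton N (subsingleton_of_forall_eq 0 fun n => by
    simpa using Module.mem_annihilator.mp (h ▸ Submodule.mem_top : (1 : A) ∈ J) n)
  haveI : Nontrivial (A ⧸ J) := Ideal.Quotient.nontrivial_iff.mpr hJ
  haveI : IsLocalRing (A ⧸ J) := IsLocalRing.of_surjective' (Ideal.Quotient.mk J) Ideal.Quotient.mk_surjective
  haveI : IsLocalHom (algebraMap A (A ⧸ J)) := IsLocalHom.of_surjective _ Ideal.Quotient.mk_surjective
  haveI : IsLocalHom (algebraMap C (A ⧸ J)) := by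
    rw [IsScalarTower.algebraMap_eq C A (A ⧸ J)]; infer_instance
  obtain ⟨p', hp'⟩ := FDesc60.comap_surjective_of_finite_flat (A := C) (B := A ⧸ J) N q
  let p : PrimeSpectrum A := p'.comap (algebraMap A (A ⧸ J))
  have hpJ : J ≤ p.asIdeal := fun a ha => by
    show algebraMap A (A ⧸ J) a ∈ p'.asIdeal
    rw [Ideal.Quotient.algebraMap_eq, Ideal.Quotient.eq_zero_iff_mem.mpr ha]
    exact zero_mem _
  have hw : X.fromSpecStalk x p ⤳ x := (Set.ext_iff.mp Scheme.range_fromSpecStalk _).mp ⟨p, rfl⟩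
  refine ⟨X.fromSpecStalk x p, ?_, hw, ?_⟩
  · obtain ⟨V, hV, hxV, -⟩ := exists_isAffineOpen_mem_and_subset (X := X) (x := x) (U := ⊤) trivial
    have hwV : X.fromSpecStalk x p ∈ V := hw.mem_open V.isOpen hxV
    have hpt : hV.primeIdealOf ⟨_, hwV⟩ = PrimeSpectrum.comap (X.presheaf.germ V x hxV).hom p := by
      apply hV.fromSpec.isOpenEmbedding.injective
      refine (hV.fromSpec_primeIdealOf _).trans ?_
      exact (congr($(hV.fromSpecStalk_eq_fromSpecStalk hxV) p)).symm.trans rfl
    rw [← QCSupp72.mem_support_iff F hV hwV, hpt]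
    haveI := QC70.finite_sections_of_isFiniteType F hV
    rw [Module.support_eq_zeroLocus]
    intro s hs
    refine hpJ (Module.mem_annihilator.mpr fun e => ?_)
    obtain ⟨c, t, hc, he⟩ := QC70.stalk_exists_smul (QC70.isLocAt_of_isQuasicoherent F hV) hV hxV e
    refine ((QC70.isUnit_germ hc).smul_eq_zero).mp ?_
    rw [smul_comm, he, ← QC70.germM_smul, Module.mem_annihilator.mp hs t, QC70.germM_zero]
  · rw [← hq, ← hp']
    exact congr($((Scheme.SpecMap_stalkMap_fromSpecStalk f (x := x))) p).symm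

theorem noEmbedded_pullTensor_iff [IsLocallyNoetherian X] [IsLocallyNoetherian Y] (E : Y.Modules)
    (hE : Coh.IsQCoh E) (F : X.Modules) (hF : Coh.IsCoh F) (hflat : FlatMod.IsFlatOver f F) :
    AssSch.NoEmbedded (CohB1.tensorMod ((Scheme.Modules.pullback f).obj E) F) ↔
      ∀ y ∈ AssSch.Ass E ∩ f.base '' CohB1.support F,
        (∀ y' ∈ AssSch.Ass E, y' ⤳ y → y' = y) ∧
          AssSch.NoEmbedded ((Scheme.Modules.pullback (f.fiberι y)).obj F) := by
  haveI := hF.1
  haveI := hF.2
  have hsupp : ∀ (y : Y) (a : f.fiber y),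
      a ∈ CohB1.support ((Scheme.Modules.pullback (f.fiberι y)).obj F) ↔ f.fiberι y a ∈ CohB1.support F :=
    fun y a => Set.ext_iff.mp (QCPull72.support_pullback (f.fiberι y) F) a
  have hqf : ∀ y : Y, Coh.IsQCoh ((Scheme.Modules.pullback (f.fiberι y)).obj F) := fun y =>
    QCPull72.isQuasicoherent_pullback _ F
  have hmem : ∀ (y : Y), y ∈ AssSch.Ass E → ∀ a ∈ AssSch.Ass ((Scheme.Modules.pullback (f.fiberι y)).obj F),
      f.fiberι y a ∈ AssSch.Ass (CohB1.tensorMod ((Scheme.Modules.pullback f).obj E) F) := by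
    intro y hy a ha
    rw [mem_ass_pullTensor f E hE F hF.1 hflat, fiberι_over]
    exact ⟨hy, a, ha, rfl⟩
  have hex : ∀ (y : Y) (w : X), w ∈ CohB1.support F → f w = y →
      ∃ a ∈ AssSch.Ass ((Scheme.Modules.pullback (f.fiberι y)).obj F), f.fiberι y a ⤳ w := by
    intro y w hw hwy
    obtain ⟨b, rfl⟩ : w ∈ Set.range (f.fiberι y) := by rw [f.range_fiberι]; exact hwy
    obtain ⟨a, ha, hab⟩ := exists_ass_specializes _ (hqf y) b
      (not_subsingleton_iff_nontrivial.mp ((hsupp y b).mpr hw))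
    exact ⟨a, ha, hab.map (f.fiberι y).continuous⟩
  constructor
  · rintro h y ⟨hy, x, hx, hxy⟩
    refine ⟨fun y' hy' hsp => ?_, fun a ha a' ha' hsp => ?_⟩
    · obtain ⟨a, ha, -⟩ := hex y x hx hxy
      have haS : f.fiberι y a ∈ CohB1.support F :=
        (hsupp y a).mp (not_subsingleton_iff_nontrivial.mpr (nontrivial_stalk_of_mem_ass _ a ha))
      obtain ⟨w, hw, hwz, hfw⟩ := exists_support_specializes f F hF hflat haS
        (show y' ⤳ f (f.fiberι y a) by rw [fiberι_over]; exact hsp)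
      obtain ⟨a', ha', ha'w⟩ := hex y' w hw hfw
      have e := h _ (hmem y hy a ha) _ (hmem y' hy' a' ha') (ha'w.trans hwz)
      have e' := congrArg f e
      rw [fiberι_over, fiberι_over] at e'
      exact e'.symm
    · exact (f.fiberι y).isEmbedding.injective
        (h _ (hmem y hy a ha) _ (hmem y hy a' ha') (hsp.map (f.fiberι y).continuous))
  · intro h z hz z' hz' hsp
    rw [mem_ass_pullTensor f E hE F hF.1 hflat] at hz hz'
    obtain ⟨hz1, a, ha, haz⟩ := hz
    obtain ⟨hz1', a', ha', haz'⟩ := hz'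
    have hzS : z ∈ CohB1.support F := by
      rw [← haz]
      exact (hsupp _ a).mp (not_subsingleton_iff_nontrivial.mpr (nontrivial_stalk_of_mem_ass _ a ha))
    obtain ⟨hmax, hne⟩ := h (f z) ⟨hz1, z, hzS, rfl⟩
    have e := hmax _ hz1' (hsp.map f.continuous)
    generalize hy : f z' = y' at *
    subst e
    rw [← haz, ← haz', (f.fiberι (f z)).isEmbedding.isInducing.specializes_iff] at hsp
    rw [← haz, ← haz', hne a ha a' ha' hsp]

end Groth.Agent.FBase64.AssTensor
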